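import Cfsg.Agent.Lib.CoSuz.Elements
import Cfsg.Agent.Lib.CosetEnum.Groups.Suz

/-! Kernel checks for the relators modulo the element of order three and the negation. -/

set_option autoImplicit false
set_option maxRecDepth 100000
set_option Elab.async false

namespace Cfsg.Lib.CoSuz

open Cfsg
open Cfsg.Lib.Co1Out (eList)

/-- A word is a power of the element of order three, up to sign. -/
def eqS (w : List (Fin 8)) : Bool :=
  (List.range 3).any fun k =>
    ((List.finRange 24).all fun i =>
      evalL w (eList i) fun a => evalL (List.replicate k 0) (eList i) fun b => a == b) ||
    ((List.finRange 24).all fun i =>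
      evalL w (eList i) fun a => evalL (List.replicate k 0) (eList i) fun b => a == b.map Neg.neg)

/-- The letters of a relator in the order of the product. -/
def relW (r : List ℕ) : List (Fin 8) := r.reverse.map fun g => Fin.ofNat 8 (g + 1)

/-- The element of order three has order three. -/
def ordB : Bool := eqW [0, 0, 0] [] && !eqW [0] []

/-- The seven elements commute with it. -/
def commB : Bool :=
  (List.finRange 8).all fun g => eqW [0, g] [g, 0]

/-- The relators. -/
def relWords : List (List ℕ) :=
  Cfsg.Lib.CosetEnum.SuzPres.numbering.pairs ++ Cfsg.Lib.CosetEnum.SuzPres.extra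

/-- The relators hold. -/
def relB (n : ℕ) : Bool :=
  ((relWords.drop (9 * n)).take 9).all fun r => (r.all fun g => Nat.blt g 7) && eqS (relW r)

theorem ord_ok : ordB = true := by decide +kernel
theorem comm_ok : commB = true := by decide +kernel
theorem nonscalar_ok : eqS [1] = false := by decide +kernel
theorem rel_len : relWords.length = 54 := by decide +kernel
theorem rel_ok0 : relB 0 = true := by decide +kernel
theorem rel_ok1 : relB 1 = true := by decide +kernel
theorem rel_ok2 : relB 2 = true := by decide +kernel
theorem rel_ok3 : relB 3 = true := by decide +kernel
theorem rel_ok4 : relB 4 = true := by decide +kernel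
theorem rel_ok5 : relB 5 = true := by decide +kernel

end Cfsg.Lib.CoSuz
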