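import Cfsg.Agent.Lib.CoSuz.CountChecks
import Cfsg.Agent.Lib.CoSuz.GroupChecks
import Cfsg.Agent.Lib.Concrete.LeechSimpleGroups
import Cfsg.Agent.Lib.Concrete.LeechCensus

/-! The centraliser of the element of order three has order at most 6 * 448345497600. -/

set_option autoImplicit false
set_option maxRecDepth 100000

namespace Cfsg.Lib.CoSuz

open Cfsg Cfsg.Lib.Concrete
open Cfsg.Lib.Co1Out (coords coords_injective coords_getD dotList eList coords_e8 forceZ forceZ_eq)
open scoped Pointwise

attribute [local irreducible] matL nearL decV vecF el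

theorem coords_congr {v w : leechLattice} (h : coords (v : GolayPt → ℤ) = coords (w : GolayPt → ℤ)) : v = w :=
  Subtype.ext (coords_injective h)

/-- The centraliser. -/
abbrev CA : Subgroup Co0 := Subgroup.centralizer ({elA} : Set Co0)

theorem comm_of_mem {g : Co0} (hg : g ∈ CA) : g * elA = elA * g := Subgroup.mem_centralizer_singleton_iff.1 hg

theorem coords_elA (v : leechLattice) :
    coords ((elA • v : leechLattice) : GolayPt → ℤ) = act 0 (coords (v : GolayPt → ℤ)) := coords_el 0 v

theorem elA_move {g : Co0} (hg : g ∈ CA) (v : leechLattice) : g • elA • v = elA • g • v := by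
  rw [← mul_smul, ← mul_smul, comm_of_mem hg]

theorem base_good {k : ℕ} (hk : k < 12) : goodC (baseC k) = true := by
  have h := base_ok
  simp only [baseB, Bool.and_eq_true, List.all_eq_true, List.mem_range] at h
  exact h.1 k hk

/-- A base vector. -/
def bv (k : ℕ) : leechLattice := lv (baseC k)

theorem bv_coords {k : ℕ} (hk : k < 12) : coords (bv k : GolayPt → ℤ) = decV (baseC k) := coords_lv (base_good hk)

theorem bv_shell {k : ℕ} (hk : k < 12) : (bv k : GolayPt → ℤ) ∈ shell 32 :=
  mem_shell.2 ⟨(bv k).2, sqNorm_lv (base_good hk)⟩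

theorem near_len : nearL.length = 4600 ∧ incB nearL = true := by
  have h := near_head
  simp only [Bool.and_eq_true, Nat.beq_eq] at h
  exact h

theorem mem_part {c : ℕ} (hc : c ∈ nearL) : ∃ n < 8, c ∈ (nearL.drop (575 * n)).take 575 := by
  obtain ⟨i, hi, rfl⟩ := List.getElem_of_mem hc
  have hl := near_len.1
  refine ⟨i / 575, by omega, List.mem_iff_getElem.2 ⟨i % 575, ?_, ?_⟩⟩
  · rw [List.length_take, List.length_drop]; omega
  · simp only [List.getElem_take, List.getElem_drop]
    congr 1
    omega

theorem near_spec {c : ℕ} (hc : c ∈ nearL) :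
    goodC c = true ∧ encV (decV c) = c ∧ dotList (decV (baseC 0)) (decV c) = 16 := by
  obtain ⟨n, hn, hm⟩ := mem_part hc
  have h : nearPartB n = true := by
    interval_cases n
    exacts [near_ok0, near_ok1, near_ok2, near_ok3, near_ok4, near_ok5, near_ok6, near_ok7]
  simp only [nearPartB, Bool.and_eq_true, List.all_eq_true, Nat.beq_eq, beq_iff_eq] at h
  exact ⟨(h c hm).1.1, (h c hm).1.2, (h c hm).2⟩

theorem incB_pairwise : ∀ {l : List ℕ}, incB l = true → l.Pairwise (· < ·)
  | [], _ => List.Pairwise.nil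
  | [a], _ => List.pairwise_singleton _ a
  | a :: b :: l, h => by
    simp only [incB, Bool.and_eq_true, Nat.blt, Nat.ble_eq] at h
    have ih := incB_pairwise h.2
    refine List.pairwise_cons.2 ⟨fun x hx => ?_, ih⟩
    rcases List.mem_cons.1 hx with rfl | hx
    · exact h.1
    · exact lt_trans h.1 ((List.pairwise_cons.1 ih).1 x hx)

theorem near_complete {x : GolayPt → ℤ} (hx : x ∈ shell 32) (hd : dotInt (bv 0 : GolayPt → ℤ) x = 16) :
    ∃ c ∈ nearL, coords x = decV c := by
  classical
  have hnd : nearL.Nodup := (incB_pairwise near_len.2).imp fun {a b} hab => Nat.ne_of_lt hab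
  set T : Finset (GolayPt → ℤ) := nearL.toFinset.image vecF with hT
  have hcard : T.card = 4600 := by
    rw [hT, Finset.card_image_of_injOn, List.toFinset_card_of_nodup hnd, near_len.1]
    intro a ha b hb e
    rw [List.coe_toFinset] at ha hb
    rw [← (near_spec ha).2.1, ← (near_spec hb).2.1, ← coords_vecF, ← coords_vecF, e]
  have hsub : T ⊆ (shell 32).filter fun y => dotInt (bv 0 : GolayPt → ℤ) y = 16 := by
    intro y hy
    obtain ⟨c, hc, rfl⟩ := Finset.mem_image.1 hy
    rw [List.mem_toFinset] at hc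
    obtain ⟨hg, -, hdot⟩ := near_spec hc
    refine Finset.mem_filter.2 ⟨mem_shell.2 ?_, ?_⟩
    · rw [← lv_val hg]; exact ⟨(lv c).2, sqNorm_lv hg⟩
    · rw [← dotList_coords, bv_coords (by norm_num), coords_vecF]; exact hdot
  have hcount : ((shell 32).filter fun y => dotInt (bv 0 : GolayPt → ℤ) y = 16).card = 4600 :=
    (dotCount_moves (shell_moves32 _ (bv_shell (by norm_num))) 16).trans census32.2.1
  have e := Finset.eq_of_subset_of_card_le hsub (by rw [hcard, hcount])
  have hxT : x ∈ T := e.symm ▸ Finset.mem_filter.2 ⟨hx, hd⟩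
  obtain ⟨c, hc, rfl⟩ := Finset.mem_image.1 hxT
  exact ⟨c, List.mem_toFinset.1 hc, coords_vecF c⟩

/-- The elements fixing the first base vectors. -/
def fixL (k : ℕ) : Subgroup Co0 where
  carrier := {g | g ∈ CA ∧ ∀ j < k, g • bv j = bv j}
  one_mem' := ⟨one_mem _, fun j _ => one_smul _ _⟩
  mul_mem' {a b} ha hb := ⟨mul_mem ha.1 hb.1, fun j hj => by rw [mul_smul, hb.2 j hj, ha.2 j hj]⟩
  inv_mem' {a} ha := ⟨inv_mem ha.1, fun j hj => by rw [inv_smul_eq_iff, ha.2 j hj]⟩

theorem sameDots_of : ∀ (fs : List (List ℤ)) (x u : List ℤ), (∀ f ∈ fs, dotList f x = dotList f u) →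
    sameDots fs x u = true
  | [], _, _, _ => rfl
  | f :: fs, x, u, h => by
    rw [sameDots, h f (List.mem_cons_self ..), BEq.rfl, Bool.true_and]
    exact sameDots_of fs x u fun g hg => h g (List.mem_cons_of_mem _ hg)

theorem card_step {k : ℕ} (hk : k < 12) (T : Finset ℕ)
    (hT : ∀ g ∈ fixL k, ∃ c ∈ T, coords ((g • bv k : leechLattice) : GolayPt → ℤ) = decV c) :
    Nat.card ↥(fixL k) ≤ T.card * Nat.card ↥(fixL (k + 1)) := by
  classical
  haveI := finite_Co0
  rw [← (MulAction.stabilizer ↥(fixL k) (bv k)).card_mul_index, MulAction.index_stabilizer, ← Nat.card_coe_set_eq,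
    mul_comm]
  refine Nat.mul_le_mul ?_ ?_
  · choose c hc hcv using fun v : ↥(MulAction.orbit ↥(fixL k) (bv k)) =>
      show ∃ c ∈ T, coords ((v.1 : leechLattice) : GolayPt → ℤ) = decV c from by
        obtain ⟨g, hg⟩ := v.2
        rw [← hg]
        exact hT g.1 g.2
    have := Nat.card_le_card_of_injective (fun v => (⟨c v, hc v⟩ : ↥T)) fun v w e => by
      have e' : c v = c w := congrArg Subtype.val e
      exact Subtype.ext (coords_congr ((hcv v).trans ((congrArg decV e').trans (hcv w).symm)))
    rwa [Nat.card_eq_fintype_card (α := ↥T), Fintype.card_coe] at this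
  · refine Nat.card_le_card_of_injective (fun g => (⟨g.1.1, g.1.2.1, fun j hj => ?_⟩ : ↥(fixL (k + 1))))
      fun a b e => Subtype.ext (Subtype.ext (congrArg (fun u : ↥(fixL (k + 1)) => u.1) e))
    rcases Nat.lt_succ_iff_lt_or_eq.1 hj with h | rfl
    · exact g.1.2.2 j h
    · exact g.2

theorem count_spec : ∀ k, 1 ≤ k → k < 12 → countB k = true := by
  intro k h1 h2
  interval_cases k
  exacts [count_ok1, count_ok2, count_ok3, count_ok4, count_ok5, count_ok6, count_ok7, count_ok8, count_ok9,
    count_ok10, count_ok11]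

theorem level_step {k : ℕ} (h1 : 1 ≤ k) (h2 : k < 12) :
    Nat.card ↥(fixL k) ≤ levelCount.getD (k - 1) 0 * Nat.card ↥(fixL (k + 1)) := by
  classical
  have h := count_spec k h1 h2
  simp only [countB, forceZZ_eq, forceZ_eq, Nat.beq_eq] at h
  refine le_trans (card_step h2 (nearL.filter fun c => candB k c).toFinset fun g hg => ?_) (Nat.mul_le_mul ?_ le_rfl)
  · have hb := base_ok
    simp only [baseB, Bool.and_eq_true, List.all_eq_true, List.mem_range, beq_iff_eq] at hb
    have hd0 : dotInt (bv 0 : GolayPt → ℤ) (bv k : GolayPt → ℤ) = 16 := by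
      rw [← dotList_coords, bv_coords (by norm_num), bv_coords h2]
      have := hb.2 (k - 1) (by omega)
      rwa [show k - 1 + 1 = k by omega] at this
    obtain ⟨c, hc, hcv⟩ := near_complete (x := ((g • bv k : leechLattice) : GolayPt → ℤ))
      (mem_shell.2 ⟨(g • bv k).2, (co0_sqNorm g _).trans (sqNorm_lv (base_good h2))⟩) (by
        conv_lhs => rw [← hg.2 0 (by omega)]
        rw [co0_dot, hd0])
    refine ⟨c, List.mem_toFinset.2 (List.mem_filter.2 ⟨hc, sameDots_of _ _ _ fun f hf => ?_⟩), hcv⟩
    simp only [prevV, List.mem_flatMap, List.mem_range, List.mem_cons, List.not_mem_nil, or_false] at hf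
    obtain ⟨j, hj, rfl | rfl⟩ := hf
    · rw [← hcv, ← bv_coords (show j < 12 by omega), ← bv_coords h2, dotList_coords, dotList_coords]
      conv_lhs => rw [← hg.2 j hj]
      exact co0_dot g _ _
    · rw [← hcv, ← bv_coords (show j < 12 by omega), ← bv_coords h2, ← coords_elA, dotList_coords, dotList_coords]
      conv_lhs => rw [← hg.2 j hj, ← elA_move hg.1]
      exact co0_dot g _ _
  · refine (List.toFinset_card_le _).trans (le_of_eq ?_)
    rw [← h, List.countP_eq_length_filter]
    rfl

theorem prevV_getD : ∀ j, j < 24 → (prevV 12).getD j [] = coords ((elA ^ (j % 2) • bv (j / 2) : leechLattice) : GolayPt → ℤ) := by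
  intro j hj
  simp only [prevV, List.flatMap_cons, List.flatMap_nil, List.cons_append, List.nil_append,
    show List.range 12 = [0, 1, 2, 3, 4, 5, 6, 7, 8, 9, 10, 11] from rfl]
  interval_cases j <;>
    simp only [List.getD_cons_succ, List.getD_cons_zero, Nat.reduceMod, Nat.reduceDiv, pow_one, pow_zero, one_smul,
      coords_elA, bv_coords (Nat.le.refl : 11 < 12), bv_coords (show 0 < 12 by norm_num), bv_coords (show 1 < 12 by norm_num),
      bv_coords (show 2 < 12 by norm_num), bv_coords (show 3 < 12 by norm_num), bv_coords (show 4 < 12 by norm_num),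
      bv_coords (show 5 < 12 by norm_num), bv_coords (show 6 < 12 by norm_num), bv_coords (show 7 < 12 by norm_num),
      bv_coords (show 8 < 12 by norm_num), bv_coords (show 9 < 12 by norm_num), bv_coords (show 10 < 12 by norm_num)]

theorem fix_all : fixL 12 = ⊥ := by
  refine (Subgroup.eq_bot_iff_forall _).2 fun g hg => Cfsg.Lib.Co1Out.co0_ext fun p => ?_
  have hspan : ∀ i : Fin 24, e8 (gpt i) = ∑ j : Fin 24, coefC i j.val • (elA ^ (j.val % 2) • bv (j.val / 2)) := by
    intro i
    have h := span_ok
    simp only [spanB, forceZZ_eq, List.all_eq_true, beq_iff_eq] at h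
    refine Subtype.ext (funext fun p => ?_)
    have hp := h i (List.mem_finRange _) (gidx p) (List.mem_finRange _)
    rw [← coords_e8, coords_getD, gpt_gidx] at hp
    rw [← hp, AddSubgroup.val_finsetSum, Finset.sum_apply, Finset.sum_fin_eq_sum_range]
    rw [show ((List.range 24).map fun j => coefC i j * ((prevV 12).getD j []).getD (gidx p).val 0).sum =
      ∑ j ∈ Finset.range 24, coefC i j * ((prevV 12).getD j []).getD (gidx p).val 0 from rfl]
    refine Finset.sum_congr rfl fun j hj => ?_
    rw [Finset.mem_range] at hj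
    rw [dif_pos hj, prevV_getD j hj, coords_getD, gpt_gidx, AddSubgroup.coe_zsmul, Pi.smul_apply, smul_eq_mul]
  rw [one_smul, ← gpt_gidx p, hspan]
  show co0Hom g _ = _
  rw [map_sum]
  refine Finset.sum_congr rfl fun j _ => ?_
  rw [map_zsmul]
  refine congrArg _ ?_
  show g • (elA ^ (j.val % 2) • bv (j.val / 2)) = _
  have cg : Commute g (elA ^ (j.val % 2)) := Commute.pow_right (comm_of_mem hg.1) _
  rw [← mul_smul, cg.eq, mul_smul, hg.2 _ (by omega)]

theorem card_CA_le : Nat.card ↥CA ≤ 6 * 448345497600 := by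
  classical
  haveI := finite_Co0
  have h0 : fixL 0 = CA := Subgroup.ext fun g => ⟨fun h => h.1, fun h => ⟨h, fun j hj => absurd hj (Nat.not_lt_zero j)⟩⟩
  have hs : Nat.card ↥(fixL 0) ≤ 196560 * Nat.card ↥(fixL 1) := by
    rw [← (MulAction.stabilizer ↥(fixL 0) (bv 0)).card_mul_index, MulAction.index_stabilizer, ← Nat.card_coe_set_eq,
      mul_comm]
    refine Nat.mul_le_mul ?_ ?_
    · refine (Nat.card_le_card_of_injective (fun v : ↥(MulAction.orbit ↥(fixL 0) (bv 0)) =>
        (⟨(v.1 : GolayPt → ℤ), ?_⟩ : ↥(shell 32))) fun v w e =>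
          Subtype.ext (Subtype.ext (congrArg (fun u : ↥(shell 32) => u.1) e))).trans ?_
      · obtain ⟨g, hg⟩ := v.2
        rw [← hg]
        exact mem_shell.2 ⟨(g.1 • bv 0).2, (co0_sqNorm g.1 _).trans (sqNorm_lv (base_good (by norm_num)))⟩
      · rw [Nat.card_eq_fintype_card, Fintype.card_coe, card_shell32]
    · refine Nat.card_le_card_of_injective (fun g => (⟨g.1.1, g.1.2.1, fun j hj => ?_⟩ : ↥(fixL 1)))
        fun a b e => Subtype.ext (Subtype.ext (congrArg (fun u : ↥(fixL 1) => u.1) e))
      obtain rfl : j = 0 := by omega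
      exact g.2
  rw [h0] at hs
  have s1 := level_step (k := 1) le_rfl (by norm_num)
  have s2 := level_step (k := 2) (by norm_num) (by norm_num)
  have s3 := level_step (k := 3) (by norm_num) (by norm_num)
  have s4 := level_step (k := 4) (by norm_num) (by norm_num)
  have s5 := level_step (k := 5) (by norm_num) (by norm_num)
  have s6 := level_step (k := 6) (by norm_num) (by norm_num)
  have s7 := level_step (k := 7) (by norm_num) (by norm_num)
  have s8 := level_step (k := 8) (by norm_num) (by norm_num)
  have s9 := level_step (k := 9) (by norm_num) (by norm_num)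
  have s10 := level_step (k := 10) (by norm_num) (by norm_num)
  have s11 := level_step (k := 11) (by norm_num) (by norm_num)
  simp only [levelCount, Nat.reduceSub, List.getD_cons_succ, List.getD_cons_zero, Nat.reduceAdd]
    at s1 s2 s3 s4 s5 s6 s7 s8 s9 s10 s11
  have hb : Nat.card ↥(fixL 12) = 1 := by rw [fix_all]; exact Subgroup.card_bot
  rw [hb] at s11
  omega

end Cfsg.Lib.CoSuz
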