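import Cfsg.Agent.Lib.CoSuz.Elements

/-! Kernel checks for the centraliser of the element of order three. -/

set_option autoImplicit false
set_option maxRecDepth 100000
set_option Elab.async false

namespace Cfsg.Lib.CoSuz

open Cfsg
open Cfsg.Lib.Co1Out (dotList forceZ eList)

/-- The list of vectors with inner product 16 with the first base vector. -/
def nearL : List ℕ := nearTab.flatten

/-- A base code. -/
def baseC (k : ℕ) : ℕ := baseCodes.getD k 0

/-- Strictly increasing, as a test. -/
def incB : List ℕ → Bool
  | a :: b :: l => Nat.blt a b && incB (b :: l)
  | _ => true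

/-- The base is good. -/
def baseB : Bool :=
  (List.range 12).all (fun k => goodC (baseC k)) &&
    (List.range 11).all fun k => dotList (decV (baseC 0)) (decV (baseC (k + 1))) == 16

/-- A stretch of the near list is right. -/
def nearPartB (n : ℕ) : Bool :=
  ((nearL.drop (575 * n)).take 575).all fun c =>
    goodC c && Nat.beq (encV (decV c)) c && dotList (decV (baseC 0)) (decV c) == 16

/-- Hand over a list of lists once evaluated. -/
def forceZZ {α : Type} : List (List ℤ) → (List (List ℤ) → α) → α
  | [], k => k []
  | x :: l, k => forceZ x fun y => forceZZ l fun m => k (y :: m)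

theorem forceZZ_eq {α : Type} : ∀ (l : List (List ℤ)) (k : List (List ℤ) → α), forceZZ l k = k l
  | [], _ => rfl
  | x :: l, k => by rw [forceZZ, Cfsg.Lib.Co1Out.forceZ_eq, forceZZ_eq l]

/-- The inner products with the vectors agree. -/
def sameDots : List (List ℤ) → List ℤ → List ℤ → Bool
  | f :: fs, x, u => dotList f x == dotList f u && sameDots fs x u
  | [], _, _ => true

/-- The first base vectors and their images. -/
def prevV (k : ℕ) : List (List ℤ) := (List.range k).flatMap fun j => [decV (baseC j), act 0 (decV (baseC j))]

/-- A candidate for the image of a base vector. -/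
def candB (k : ℕ) (c : ℕ) : Bool := sameDots (prevV k) (decV c) (decV (baseC k))

/-- The number of candidates at a level. -/
def countB (k : ℕ) : Bool :=
  forceZZ (prevV k) fun fs => forceZ (decV (baseC k)) fun u =>
    Nat.beq (nearL.countP fun c => sameDots fs (decV c) u) (levelCount.getD (k - 1) 0)

/-- The coefficient of the spanning. -/
def coefC (i : Fin 24) (j : ℕ) : ℤ := (spanCoef.getD i.val []).getD j 0

/-- The spanning check. -/
def spanB : Bool :=
  forceZZ (prevV 12) fun fs =>
    (List.finRange 24).all fun i => (List.finRange 24).all fun r =>
      ((List.range 24).map fun j => coefC i j * (fs.getD j []).getD r.val 0).sum == (eList i).getD r.val 0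

theorem near_head : (Nat.beq nearL.length 4600 && incB nearL) = true := by decide +kernel
theorem near_ok0 : nearPartB 0 = true := by decide +kernel
theorem near_ok1 : nearPartB 1 = true := by decide +kernel
theorem near_ok2 : nearPartB 2 = true := by decide +kernel
theorem near_ok3 : nearPartB 3 = true := by decide +kernel
theorem near_ok4 : nearPartB 4 = true := by decide +kernel
theorem near_ok5 : nearPartB 5 = true := by decide +kernel
theorem near_ok6 : nearPartB 6 = true := by decide +kernel
theorem near_ok7 : nearPartB 7 = true := by decide +kernel
theorem base_ok : baseB = true := by decide +kernel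
theorem span_ok : spanB = true := by decide +kernel

end Cfsg.Lib.CoSuz
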