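import Cfsg.Agent.Lib.CoSuz.Checks

/-! Kernel checks for the candidates at levels eight to eleven. -/

set_option autoImplicit false
set_option maxRecDepth 100000
set_option Elab.async false

namespace Cfsg.Lib.CoSuz

theorem count_ok8 : countB 8 = true := by decide +kernel
theorem count_ok9 : countB 9 = true := by decide +kernel
theorem count_ok10 : countB 10 = true := by decide +kernel
theorem count_ok11 : countB 11 = true := by decide +kernel

end Cfsg.Lib.CoSuz
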