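import Cfsg.Agent.Lib.CoSuz.CountChecksLow
import Cfsg.Agent.Lib.CoSuz.CountChecksMid
import Cfsg.Agent.Lib.CoSuz.CountChecksHigh

/-! Kernel checks for the candidates at each level. -/
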