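import Cfsg.Agent.Lib.Co1Out.Elements
import Cfsg.Agent.Lib.CoSuz.Mats

/-! The element of order three and seven elements commuting with it. -/

set_option autoImplicit false
set_option maxRecDepth 100000

namespace Cfsg.Lib.CoSuz

open Cfsg Cfsg.Lib.Concrete
open Cfsg.Lib.Co1Out (coords coords_injective coords_getD dotList dotList_map forceZ forceZ_eq eList coords_e8)

/-- The eight elements. -/
def el (m : Fin 8) : Co0 := matCo0 (matL m.val) (mats_ok m)

/-- The element of order three. -/
def elA : Co0 := el 0

/-- The offset of the packed image. -/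
def bigOff : ℕ := ((List.finRange 24).map fun r => 32768 * 65536 ^ r.val).sum

/-- A packed column. -/
def colQ (m : ℕ) (i : Fin 24) : ℤ := (colTab.getD m []).getD i.val 0

theorem colQ_ok : ∀ m : Fin 8, ∀ i : Fin 24, colQ m.val i = ∑ r : Fin 24, entL m.val r i * (65536 : ℤ) ^ r.val := by
  decide +kernel

theorem colTab_len : ∀ m : Fin 8, (colTab.getD m.val []).length = 24 := by decide +kernel

theorem bigOff_eq : bigOff = ∑ r : Fin 24, 32768 * 65536 ^ r.val := by rw [bigOff, Fin.sum_univ_def]

theorem digit_sum : ∀ (n : ℕ) (D : Fin n → ℕ), (∀ r, D r < 65536) →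
    ∀ r : Fin n, ((∑ s, D s * 65536 ^ s.val) >>> (16 * r.val)) % 65536 = D r
  | 0, _, _, r => r.elim0
  | n + 1, D, hD, r => by
    have e : ∑ s, D s * 65536 ^ s.val = D 0 + 65536 * ∑ s : Fin n, D s.succ * 65536 ^ s.val := by
      rw [Fin.sum_univ_succ, Finset.mul_sum]
      simp only [Fin.val_zero, pow_zero, mul_one, Fin.val_succ, pow_succ]
      congr 1
      exact Finset.sum_congr rfl fun s _ => by ring
    rw [Nat.shiftRight_eq_div_pow, e]
    refine Fin.cases ?_ (fun r' => ?_) r
    · simp only [Fin.val_zero, mul_zero, pow_zero, Nat.div_one]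
      rw [Nat.add_mul_mod_self_left, Nat.mod_eq_of_lt (hD 0)]
    · rw [show 16 * (r'.succ : Fin (n + 1)).val = 16 + 16 * r'.val by rw [Fin.val_succ]; ring, pow_add,
        ← Nat.div_div_eq_div_mul, show (2 : ℕ) ^ 16 = 65536 by norm_num, Nat.add_mul_div_left _ _ (by norm_num),
        Nat.div_eq_of_lt (hD 0), zero_add, ← Nat.shiftRight_eq_div_pow]
      exact digit_sum n (fun s => D s.succ) (fun s => hD _) r'

/-- The test for the fast image. -/
def smallB (l : List ℤ) : Bool := l.all fun a => Nat.ble a.natAbs 16

/-- The eight maps on lists. -/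
def act (m : Fin 8) (l : List ℤ) : List ℤ :=
  bif smallB l then
    Cfsg.Lib.Co1Out.forceI (dotList l (colTab.getD m.val []) + (bigOff : ℤ)) fun P =>
      Cfsg.Lib.Co1Out.forceN P.toNat fun n =>
        (List.finRange 24).map fun r => ((((n >>> (16 * r.val)) % 65536 : ℕ) : ℤ) - 32768) / 8
  else (matL m.val).map fun r => dotList r l / 8

theorem matEntry_matL (m : ℕ) (i j : Fin 24) : matEntry (matL m) i j = entL m i j := by
  simp [matEntry, matL]

theorem coords_el (m : Fin 8) (v : leechLattice) :
    coords ((el m • v : leechLattice) : GolayPt → ℤ) = act m (coords (v : GolayPt → ℤ)) := by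
  set x : Fin 24 → ℤ := fun j => (v : GolayPt → ℤ) (gpt j) with hx
  have hc : coords (v : GolayPt → ℤ) = (List.finRange 24).map x := rfl
  have hslow : coords ((el m • v : leechLattice) : GolayPt → ℤ) =
      (List.finRange 24).map fun i => (∑ j, entL m.val i j * x j) / 8 := by
    rw [el, matCo0_apply]
    refine List.map_inj_left.2 fun i _ => ?_
    simp only [matFun, gidx_gpt, matDot_eq, matEntry_matL, hx]
  rw [hslow, act, hc]
  cases hb : smallB ((List.finRange 24).map x) with
  | false =>
    rw [cond_false, matL, List.map_map]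
    refine List.map_inj_left.2 fun i _ => ?_
    simp only [Function.comp_apply, dotList_map, Fin.sum_univ_def]
  | true =>
    have hsmall : ∀ j, |x j| ≤ 16 := fun j => by
      simp only [smallB, List.all_eq_true, List.mem_map, Nat.ble_eq] at hb
      have := hb _ ⟨j, List.mem_finRange j, rfl⟩
      rw [Int.abs_eq_natAbs]
      exact_mod_cast this
    have hent : ∀ i j, |entL m.val i j| ≤ 16 := fun i j => by
      have : (rowCode m.val i.val >>> (5 * j.val)) % 32 < 32 := Nat.mod_lt _ (by norm_num)
      rw [abs_le, entL]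
      omega
    set y : Fin 24 → ℤ := fun i => ∑ j, entL m.val i j * x j with hy
    have hyb : ∀ i, -32768 ≤ y i ∧ y i < 32768 := fun i => by
      have h : |y i| ≤ 24 * 256 := by
        refine (Finset.abs_sum_le_sum_abs _ _).trans ?_
        refine (Finset.sum_le_card_nsmul _ _ 256 fun j _ => ?_).trans (by simp)
        rw [abs_mul]
        exact (mul_le_mul (hent i j) (hsmall j) (abs_nonneg _) (by norm_num)).trans (by norm_num)
      rw [abs_le] at h
      omega
    have hlist : colTab.getD m.val [] = (List.finRange 24).map (colQ m.val) := by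
      refine List.ext_getElem (by rw [colTab_len m, List.length_map, List.length_finRange]) fun i h1 h2 => ?_
      rw [List.getElem_map, List.getElem_finRange, colQ]
      exact (List.getD_eq_getElem _ _ h1).symm
    have hP : (dotList ((List.finRange 24).map x) (colTab.getD m.val []) + (bigOff : ℤ)) =
        ((∑ r, (y r + 32768).toNat * 65536 ^ r.val : ℕ) : ℤ) := by
      rw [hlist, dotList_map, ← Fin.sum_univ_def, bigOff_eq, Nat.cast_sum, Nat.cast_sum]
      simp only [colQ_ok m, Finset.mul_sum, Nat.cast_mul, Nat.cast_pow, Nat.cast_ofNat]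
      rw [Finset.sum_comm, ← Finset.sum_add_distrib]
      refine Finset.sum_congr rfl fun r _ => ?_
      rw [Int.toNat_of_nonneg (by linarith [(hyb r).1]), add_mul, hy]
      simp only [Finset.sum_mul]
      exact congrArg (· + _) (Finset.sum_congr rfl fun j _ => by ring)
    rw [cond_true, Cfsg.Lib.Co1Out.forceI_eq, Cfsg.Lib.Co1Out.forceN_eq, hP, Int.toNat_natCast]
    refine List.map_inj_left.2 fun i _ => ?_
    rw [digit_sum 24 (fun r => (y r + 32768).toNat) (fun r => by have := hyb r; omega) i,
      Int.toNat_of_nonneg (by linarith [(hyb i).1]), add_sub_cancel_right]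

/-- The word's product. -/
def prodL : List (Fin 8) → Co0
  | [] => 1
  | a :: w => el a * prodL w

/-- The word's action on lists. -/
def actL : List (Fin 8) → List ℤ → List ℤ
  | [], l => l
  | a :: w, l => act a (actL w l)

theorem coords_prodL : ∀ (w : List (Fin 8)) (v : leechLattice),
    coords ((prodL w • v : leechLattice) : GolayPt → ℤ) = actL w (coords (v : GolayPt → ℤ))
  | [], v => by simp [prodL, actL]
  | a :: w, v => by rw [prodL, mul_smul, coords_el, coords_prodL w v, actL]

/-- The action of a word, evaluated letter by letter. -/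
def evalL : List (Fin 8) → List ℤ → (List ℤ → Bool) → Bool
  | [], l, k => k l
  | a :: w, l, k => evalL w l fun m => forceZ (act a m) k

theorem evalL_eq : ∀ (w : List (Fin 8)) (l : List ℤ) (k : List ℤ → Bool), evalL w l k = k (actL w l)
  | [], _, _ => rfl
  | a :: w, l, k => by rw [evalL, evalL_eq w, forceZ_eq, actL]

/-- Two words agree on the scaled unit lists. -/
def eqW (w u : List (Fin 8)) : Bool :=
  (List.finRange 24).all fun i => evalL w (eList i) fun a => evalL u (eList i) fun b => a == b

theorem prodL_eq_of_eqW {w u : List (Fin 8)} (h : eqW w u = true) : prodL w = prodL u :=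
  Cfsg.Lib.Co1Out.co0_ext fun p => Subtype.ext (coords_injective (by
    simp only [eqW, evalL_eq, List.all_eq_true, beq_iff_eq] at h
    rw [← gpt_gidx p, coords_prodL, coords_prodL, coords_e8]
    exact h _ (List.mem_finRange _)))

/-- A coordinate of a coded vector. -/
def dig (c : ℕ) (i : Fin 24) : ℤ := (((c >>> (4 * i.val)) % 16 : ℕ) : ℤ) - 8

/-- The list of a code. -/
def decV (c : ℕ) : List ℤ := (List.finRange 24).map (dig c)

/-- The vector of a code. -/
def vecF (c : ℕ) : GolayPt → ℤ := fun p => dig c (gidx p)

theorem coords_vecF (c : ℕ) : coords (vecF c) = decV c :=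
  List.map_inj_left.2 fun i _ => by rw [vecF, gidx_gpt]

/-- The code of a list. -/
def encV : List ℤ → ℕ
  | [] => 0
  | a :: l => (a + 8).toNat + 16 * encV l

/-- A code of a lattice vector of norm 32. -/
def goodC (c : ℕ) : Bool := inLeech (vecF c) && dotList (decV c) (decV c) == 32

/-- The lattice vector of a code. -/
def lv (c : ℕ) : leechLattice := if h : inLeech (vecF c) = true then ⟨vecF c, mem_leech_of_inLeech h⟩ else 0

theorem dotList_coords (x y : GolayPt → ℤ) : dotList (coords x) (coords y) = dotInt x y := by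
  rw [coords, coords, dotList_map, ← Fin.sum_univ_def, dotInt, sum_gpt fun p => x p * y p]

theorem lv_val {c : ℕ} (h : goodC c = true) : (lv c : GolayPt → ℤ) = vecF c := by
  simp only [goodC, Bool.and_eq_true] at h
  rw [lv, dif_pos h.1]

theorem coords_lv {c : ℕ} (h : goodC c = true) : coords (lv c : GolayPt → ℤ) = decV c := by
  rw [lv_val h, coords_vecF]

theorem sqNorm_lv {c : ℕ} (h : goodC c = true) : sqNorm (lv c : GolayPt → ℤ) = 32 := by
  have h2 := (Bool.and_eq_true_iff.1 h).2
  rw [beq_iff_eq, ← coords_vecF c, dotList_coords] at h2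
  rw [lv_val h, ← h2]
  simp [dotInt, sqNorm, sq]

end Cfsg.Lib.CoSuz
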