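import Cfsg.Agent.Lib.CoSuz.InvolCheck
import Cfsg.Agent.Lib.Extra.Wide.FromHyp
import Cfsg.Agent.Lib.Extra.Wide.Numbers
import Cfsg.Agent.Lib.Extra.OuterClassify
import Cfsg.Agent.Lib.Concrete.MonsterBabyCore

/-!
# The normal subgroup of order 128 in the centraliser of an involution
-/

set_option autoImplicit false
set_option maxRecDepth 100000
set_option linter.style.haveILetI false

namespace Cfsg.Lib.CoSuz

open Cfsg Cfsg.Lib.CosetEnum Cfsg.Lib.CosetEnum.SuzOut Cfsg.Lib.CosetEnum.SuzMult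

/-- The centraliser of the involution. -/
abbrev Cz : Subgroup Cfsg.Spor.Suz := Subgroup.centralizer ({invA} : Set Cfsg.Spor.Suz)

/-- One of the six elements. -/
def xE (j : ℕ) : Cfsg.Spor.Suz := wordVal xgen (xW j)

/-- The element of a code. -/
def qE (v : ℕ) : Cfsg.Spor.Suz := wordVal xgen (qW v)

/-- The normal subgroup. -/
def QS : Subgroup Cfsg.Spor.Suz :=
  Subgroup.closure (insert invA (xE '' {j | j < 6}))

theorem mem_Cz {c : Cfsg.Spor.Suz} : c ∈ Cz ↔ c * invA = invA * c := Subgroup.mem_centralizer_singleton_iff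

theorem same_iff {u v : List ℕ} (hu : ∀ g ∈ u, g < 7) (hv : ∀ g ∈ v, g < 7) :
    sameW u v = true ↔ wordVal xgen u = wordVal xgen v := by
  refine ⟨eq_of_sameW hu hv, fun h => ?_⟩
  simp only [sameW, List.all_eq_true, Nat.beq_eq]
  intro p hp
  have hp' : p < 1782 := by revert p; decide
  rw [← act_word hu ⟨p, hp'⟩, ← act_word hv ⟨p, hp'⟩, h]

theorem xW_lt (j : ℕ) : ∀ g ∈ xW j, g < 7 := by
  rcases Nat.lt_or_ge j 6 with h | h
  · have h' := x_ok
    simp only [xB, List.all_eq_true, List.mem_range, Bool.and_eq_true] at h'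
    exact (cent_of_ok (h' j h).1).1
  · intro g hg
    rw [xW, List.getD_eq_default _ _ (show xWords.length ≤ j from h)] at hg
    simp at hg

theorem qW_lt (v : ℕ) : ∀ g ∈ qW v, g < 7 := by
  intro g hg
  simp only [qW, List.mem_append, List.mem_flatMap] at hg
  rcases hg with hg | ⟨i, -, hg⟩
  · cases h : v.testBit 6 <;> simp [h] at hg; omega
  · cases h : v.testBit i <;> simp [h] at hg
    exact xW_lt i g hg

theorem app_lt {u v : List ℕ} (hu : ∀ g ∈ u, g < 7) (hv : ∀ g ∈ v, g < 7) : ∀ g ∈ u ++ v, g < 7 := fun g hg =>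
  (List.mem_append.1 hg).elim (hu g) (hv g)

theorem rev_lt {u : List ℕ} (hu : ∀ g ∈ u, g < 7) : ∀ g ∈ u.reverse, g < 7 := fun g hg => hu g (List.mem_reverse.1 hg)

theorem zero_lt7 : ∀ g ∈ ([0] : List ℕ), g < 7 := by simp

theorem nil_lt7 : ∀ g ∈ ([] : List ℕ), g < 7 := by simp

theorem val_nil : wordVal xgen [] = 1 := rfl

theorem val_conj (w u : List ℕ) :
    wordVal xgen (w.reverse ++ u ++ w) = wordVal xgen w * wordVal xgen u * (wordVal xgen w)⁻¹ := by
  rw [val_app, val_app, val_rev, mul_assoc]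

theorem xE_mem_Cz {j : ℕ} (h : j < 6) : xE j ∈ Cz := by
  have h' := x_ok
  simp only [xB, List.all_eq_true, List.mem_range, Bool.and_eq_true] at h'
  exact (cent_of_ok (h' j h).1).2

theorem qE_pow {j : ℕ} (h : j < 6) : qE (2 ^ j) = xE j := by
  have h' := x_ok
  simp only [xB, List.all_eq_true, List.mem_range, Bool.and_eq_true] at h'
  exact eq_of_sameW (qW_lt _) (xW_lt _) (h' j h).2

theorem mul_all {v : ℕ} (hv : v < 128) : ∀ j < 6, stepC j v < 128 ∧ xE j * qE v = qE (stepC j v) := by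
  have h : mulB (v / 16) = true := by
    have : v / 16 < 8 := by omega
    interval_cases v / 16
    exacts [mul_ok0, mul_ok1, mul_ok2, mul_ok3, mul_ok4, mul_ok5, mul_ok6, mul_ok7]
  simp only [mulB, List.all_eq_true, List.mem_range'_1, List.mem_range, Bool.and_eq_true, Nat.blt_eq] at h
  intro j hj
  obtain ⟨h1, h2⟩ := h v ⟨by omega, by omega⟩ j hj
  refine ⟨h1, ?_⟩
  have e := eq_of_sameW (app_lt (qW_lt _) (xW_lt _)) (qW_lt _) h2
  rwa [val_app] at e

theorem form_all {v : ℕ} (hv : v < 128) :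
    (qE v * qE v = 1 ∨ qE v * qE v = invA) ∧
      ∀ j < 6, (Commute (xE j) (qE v) ↔ v.testBit (j ^^^ 1) = false) := by
  have h : formB (v / 16) = true := by
    have : v / 16 < 8 := by omega
    interval_cases v / 16
    exacts [form_ok0, form_ok1, form_ok2, form_ok3, form_ok4, form_ok5, form_ok6, form_ok7]
  simp only [formB, List.all_eq_true, List.mem_range'_1, List.mem_range, Bool.and_eq_true, Bool.or_eq_true,
    beq_iff_eq] at h
  obtain ⟨h1, h2⟩ := h v ⟨by omega, by omega⟩
  refine ⟨h1.imp (fun e => ?_) (fun e => ?_), fun j hj => ?_⟩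
  · have := eq_of_sameW (app_lt (qW_lt _) (qW_lt _)) nil_lt7 e
    rwa [val_app] at this
  · have := eq_of_sameW (app_lt (qW_lt _) (qW_lt _)) zero_lt7 e
    rwa [val_app] at this
  · have := h2 j hj
    rw [Bool.eq_iff_iff, same_iff (app_lt (qW_lt _) (xW_lt _)) (app_lt (xW_lt _) (qW_lt _)), val_app, val_app,
      Bool.not_eq_true'] at this
    exact this

theorem qE_zero : qE 0 = 1 := rfl

theorem qE_top : qE 64 = invA := by
  refine eq_of_sameW (qW_lt _) zero_lt7 ?_
  rfl

theorem invA_ne_one : invA ≠ 1 := by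
  intro e
  have h := (form_all (v := 1) (by norm_num)).2 1 (by norm_num)
  have h1 : qE 1 = xE 0 := qE_pow (j := 0) (by norm_num)
  have h2 := (mul_all (v := 1) (by norm_num) 1 (by norm_num)).2
  have h3 := (mul_all (v := 2) (by norm_num) 0 (by norm_num)).2
  have h64 : qE (stepC 1 1) = qE (stepC 0 2) * invA := by
    refine (eq_of_sameW (qW_lt _) (qW_lt _) (v := qW (stepC 1 1)) ?_).trans ?_
    · decide +kernel
    · rw [show stepC 1 1 = 67 from rfl, show stepC 0 2 = 3 from rfl]
      show wordVal xgen ([0] ++ qW 3) = wordVal xgen (qW 3) * invA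
      rw [val_app]
      rfl
  rw [e, mul_one, ← h2, ← h3, show qE 2 = xE 1 from qE_pow (j := 1) (by norm_num), h1] at h64
  exact absurd (h.1 (by rw [h1]; exact h64)) (by decide)

theorem qE_mem (v : ℕ) : qE v ∈ QS := by
  have key : ∀ w : List ℕ, (∀ i ∈ w, i < 6) →
      wordVal xgen (w.flatMap fun i => bif v.testBit i then xW i else []) ∈ QS := by
    intro w
    induction w with
    | nil => exact fun _ => one_mem _
    | cons i w ih =>
      intro h
      rw [List.flatMap_cons, val_app]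
      refine mul_mem (ih fun a ha => h a (List.mem_cons_of_mem _ ha)) ?_
      cases v.testBit i
      · exact one_mem _
      · exact Subgroup.subset_closure (Or.inr ⟨i, h i (List.mem_cons_self ..), rfl⟩)
  rw [qE, qW, val_app]
  refine mul_mem (key _ (by simp)) ?_
  cases v.testBit 6
  · exact one_mem _
  · exact Subgroup.subset_closure (Or.inl rfl)

theorem invA_central {j : ℕ} (hj : j < 6) : Commute invA (xE j) := (mem_Cz.1 (xE_mem_Cz hj)).symm

theorem exists_code {a : Cfsg.Spor.Suz} (ha : a ∈ QS) : ∃ v < 128, a = qE v := by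
  have ha' : a ∈ Submonoid.closure (insert invA (xE '' {j | j < 6})) := by
    rw [← Subgroup.closure_toSubmonoid_of_finite]; exact ha
  clear ha
  induction ha' using Submonoid.closure_induction_left with
  | one => exact ⟨0, by norm_num, rfl⟩
  | mul_left x hx y _ ih =>
    obtain ⟨v, hv, rfl⟩ := ih
    rcases hx with rfl | ⟨j, hj, rfl⟩
    · have hx6 : ∀ w : ℕ, w < 128 → w ^^^ 64 < 128 := fun w hw => Nat.xor_lt_two_pow (n := 7) hw (by norm_num)
      refine ⟨v ^^^ 64, hx6 v hv, ?_⟩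
      have hb : ∀ i : ℕ, i < 6 → (v ^^^ 64).testBit i = v.testBit i := fun i hi => by
        rw [Nat.testBit_xor, show (64 : ℕ) = 2 ^ 6 by norm_num, Nat.testBit_two_pow]
        simp [show (6 : ℕ) ≠ i by omega]
      have h6 : (v ^^^ 64).testBit 6 = !v.testBit 6 := by
        rw [Nat.testBit_xor, show (64 : ℕ) = 2 ^ 6 by norm_num, Nat.testBit_two_pow]
        simp
      have hcent : ∀ u : ℕ, invA * qE u = qE u * invA := fun u => by
        obtain ⟨a', ha'⟩ : ∃ b : QS, b.1 = qE u := ⟨⟨_, qE_mem u⟩, rfl⟩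
        have : QS ≤ Subgroup.centralizer ({invA} : Set Cfsg.Spor.Suz) := by
          rw [QS, Subgroup.closure_le]
          rintro _ (rfl | ⟨i, hi, rfl⟩)
          · exact Subgroup.mem_centralizer_singleton_iff.2 rfl
          · exact xE_mem_Cz hi
        exact (Subgroup.mem_centralizer_singleton_iff.1 (this (qE_mem u))).symm
      rw [hcent, qE, qE, qW, qW, h6]
      have hl : (([5, 4, 3, 2, 1, 0] : List ℕ).flatMap fun i => bif (v ^^^ 64).testBit i then xW i else []) =
          ([5, 4, 3, 2, 1, 0] : List ℕ).flatMap fun i => bif v.testBit i then xW i else [] := by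
        simp only [List.flatMap_cons, List.flatMap_nil, hb 5 (by norm_num), hb 4 (by norm_num), hb 3 (by norm_num),
          hb 2 (by norm_num), hb 1 (by norm_num), hb 0 (by norm_num)]
      rw [hl, val_app, val_app, mul_assoc]
      have h0 : wordVal xgen [0] = invA := rfl
      cases v.testBit 6 <;>
        simp only [Bool.not_false, Bool.not_true, cond_true, cond_false, val_nil, h0, invA_sq, one_mul, mul_one]
    · exact ⟨_, (mul_all hv j hj).1, (mul_all hv j hj).2⟩

theorem QS_le : QS ≤ Cz := by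
  rw [QS, Subgroup.closure_le]
  rintro _ (rfl | ⟨i, hi, rfl⟩)
  · exact mem_Cz.2 rfl
  · exact xE_mem_Cz hi

theorem invA_mem : invA ∈ QS := Subgroup.subset_closure (Or.inl rfl)

theorem xE_mem {j : ℕ} (hj : j < 6) : xE j ∈ QS := Subgroup.subset_closure (Or.inr ⟨j, hj, rfl⟩)

theorem low_eq {v w : ℕ} (hv : v < 128) (hw : w < 128) (h : ∀ i < 6, v.testBit i = w.testBit i) :
    v % 64 = w % 64 := by
  refine Nat.eq_of_testBit_eq fun i => ?_
  rw [show (64 : ℕ) = 2 ^ 6 by norm_num, Nat.testBit_mod_two_pow, Nat.testBit_mod_two_pow]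
  rcases Nat.lt_or_ge i 6 with hi | hi
  · rw [h i hi]
  · simp [show ¬ i < 6 by omega]

theorem qE_bits {v w : ℕ} (hv : v < 128) (hw : w < 128)
    (h : ∀ j < 6, (Commute (xE j) (qE v) ↔ Commute (xE j) (qE w))) : v % 64 = w % 64 := by
  refine low_eq hv hw fun i hi => ?_
  have hi' : i ^^^ 1 < 6 := by revert hi; revert i; decide
  have e := h _ hi'
  rw [(form_all hv).2 _ hi', (form_all hw).2 _ hi', Nat.xor_assoc, Nat.xor_self, Nat.xor_zero] at e
  rw [Bool.eq_iff_iff]
  revert e; cases v.testBit i <;> cases w.testBit i <;> simp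

theorem qE_add {v : ℕ} (hv : v < 64) : qE (v + 64) = qE v * invA := by
  have hb : ∀ i : ℕ, i < 6 → (v + 64).testBit i = v.testBit i := fun i hi => by
    rw [add_comm, show (64 : ℕ) = 2 ^ 6 by norm_num, Nat.testBit_two_pow_add_gt hi]
  have h6 : (v + 64).testBit 6 = true := by
    rw [add_comm, show (64 : ℕ) = 2 ^ 6 by norm_num, Nat.testBit_two_pow_add_eq,
      Nat.testBit_lt_two_pow (by simpa using hv)]
    rfl
  have h6' : v.testBit 6 = false := Nat.testBit_lt_two_pow (by simpa using hv)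
  rw [qE, qE, qW, qW, h6, h6']
  simp only [hb 5 (by norm_num), hb 4 (by norm_num), hb 3 (by norm_num), hb 2 (by norm_num), hb 1 (by norm_num),
    hb 0 (by norm_num), List.flatMap_cons, cond_true, cond_false, List.nil_append]
  rw [val_app]
  rfl

theorem qE_inj {v w : ℕ} (hv : v < 128) (hw : w < 128) (h : qE v = qE w) : v = w := by
  have hm := qE_bits hv hw fun j _ => by rw [h]
  rcases Nat.lt_or_ge v 64 with h1 | h1 <;> rcases Nat.lt_or_ge w 64 with h2 | h2
  · omega
  · exfalso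
    obtain ⟨w', rfl⟩ : ∃ w', w = w' + 64 := ⟨w - 64, by omega⟩
    obtain rfl : v = w' := by omega
    rw [qE_add h1] at h
    exact invA_ne_one (left_eq_mul.1 h)
  · exfalso
    obtain ⟨v', rfl⟩ : ∃ v', v = v' + 64 := ⟨v - 64, by omega⟩
    obtain rfl : v' = w := by omega
    rw [qE_add h2] at h
    exact invA_ne_one (mul_eq_left.1 h)
  · omega

theorem card_QS : Nat.card QS = 128 := by
  rw [← Nat.card_fin 128]
  refine (Nat.card_eq_of_bijective (fun v : Fin 128 => (⟨qE v, qE_mem v⟩ : QS)) ⟨fun v w h => ?_, fun a => ?_⟩).symm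
  · exact Fin.ext (qE_inj v.2 w.2 (congrArg Subtype.val h))
  · obtain ⟨v, hv, e⟩ := exists_code a.2
    exact ⟨⟨v, hv⟩, Subtype.ext e.symm⟩

theorem sq_mem {a : Cfsg.Spor.Suz} (ha : a ∈ QS) : a * a = 1 ∨ a * a = invA := by
  obtain ⟨v, hv, rfl⟩ := exists_code ha
  exact (form_all hv).1

theorem centre_QS {a : Cfsg.Spor.Suz} (ha : a ∈ QS) (h : ∀ j < 6, Commute (xE j) a) : a = 1 ∨ a = invA := by
  obtain ⟨v, hv, rfl⟩ := exists_code ha
  have hm := qE_bits hv (show 0 < 128 by norm_num) fun j hj => iff_of_true (h j hj) (by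
    rw [qE_zero]; exact Commute.one_right _)
  rcases (show v = 0 ∨ v = 64 by omega) with rfl | rfl
  exacts [Or.inl qE_zero, Or.inr qE_top]

theorem invA_comm {a : Cfsg.Spor.Suz} (ha : a ∈ QS) : Commute invA a := (mem_Cz.1 (QS_le ha)).symm

theorem comm_mem {a b : Cfsg.Spor.Suz} (ha : a ∈ QS) (hb : b ∈ QS) :
    a * b * a⁻¹ * b⁻¹ = 1 ∨ a * b * a⁻¹ * b⁻¹ = invA := by
  have hc : ∀ t : Cfsg.Spor.Suz, t ∈ QS → t * t = 1 ∨ t * t = invA := fun t ht => sq_mem ht
  have hii : invA⁻¹ = invA := inv_eq_of_mul_eq_one_right invA_sq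
  have e : a * b * a⁻¹ * b⁻¹ = (a * b * (a * b)) * (b⁻¹ * (a * a)⁻¹ * b) * (b * b)⁻¹ := by group
  have hm : b⁻¹ * (a * a)⁻¹ * b = (a * a)⁻¹ := by
    rcases hc a ha with h | h <;> rw [h]
    · simp
    · rw [hii, mul_assoc, (invA_comm hb).eq, inv_mul_cancel_left]
  rw [e, hm]
  rcases hc _ (mul_mem ha hb) with h1 | h1 <;> rcases hc a ha with h2 | h2 <;> rcases hc b hb with h3 | h3 <;>
    simp [h1, h2, h3, hii, invA_sq]

theorem isExtraspecial_QS : Cfsg.IsExtraspecial 2 ↥QS := by
  haveI : Fact (Nat.Prime 2) := ⟨Nat.prime_two⟩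
  have hz : (⟨invA, invA_mem⟩ : QS) ∈ Subgroup.center QS :=
    Subgroup.mem_center_iff.2 fun a => Subtype.ext (invA_comm a.2).eq.symm
  have hsmall : ∀ a : QS, ((a : Cfsg.Spor.Suz) = 1 ∨ (a : Cfsg.Spor.Suz) = invA) → a ∈ Subgroup.center QS := by
    intro a ha
    rcases ha with e | e
    · rw [show a = 1 from Subtype.ext e]; exact one_mem _
    · rw [show a = ⟨invA, invA_mem⟩ from Subtype.ext e]; exact hz
  have hZ : Nat.card (Subgroup.center QS) = 2 := by
    refine Nat.card_eq_two_iff.2 ⟨1, ⟨_, hz⟩, fun h => invA_ne_one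
      (congrArg (fun u : Subgroup.center QS => ((u : QS) : Cfsg.Spor.Suz)) h).symm, Set.eq_univ_iff_forall.2 fun u => ?_⟩
    rcases centre_QS (u : QS).2 (fun j hj => congrArg Subtype.val
      (Subgroup.mem_center_iff.1 u.2 ⟨xE j, xE_mem hj⟩)) with e | e
    · exact Or.inl (Subtype.ext (Subtype.ext e))
    · exact Or.inr (Subtype.ext (Subtype.ext e))
  refine Cfsg.Lib.Concrete.extraspecial_of_center (IsPGroup.of_card (n := 7) (by rw [card_QS]; norm_num)) hZ
    (fun a b => hsmall _ (comm_mem a.2 b.2)) (fun a => hsmall _ (sq_mem a.2))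
    ⟨⟨xE 1, xE_mem (by norm_num)⟩, ⟨qE 1, qE_mem 1⟩, fun h => ?_⟩
  have := ((form_all (v := 1) (by norm_num)).2 1 (by norm_num)).1 (congrArg Subtype.val h)
  exact absurd this (by decide)

theorem gens_lt : ∀ u ∈ cU0, ∀ g ∈ u, g < 7 := by decide +kernel

theorem cU0_len : cU0.length = 14 := by decide +kernel

theorem closure_cU0 : Subgroup.closure (wordVal xgen '' {u | u ∈ cU0}) = Cz ∧ Nat.card Cz = 3317760 := by
  have h := comms_ok
  simp only [Bool.and_eq_true, List.all_eq_true, List.any_eq_true] at h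
  have hle : Subgroup.closure (wordVal xgen '' {u | u ∈ cU0}) ≤ Cz := by
    rw [Subgroup.closure_le]
    rintro _ ⟨u, hu, rfl⟩
    obtain ⟨P, hP, e⟩ := h.2 u hu
    obtain rfl := beqW_eq e
    have h' := h.1 P hP
    simp only [commOK, Bool.and_eq_true] at h'
    exact (cent_of_ok h'.1.1).2
  have hb := card_mul_le_of_base cBase_ok (Subgroup.closure (wordVal xgen '' {u | u ∈ cU0}))
    (fun u hu => Subgroup.subset_closure ⟨u, hu, rfl⟩)
  have hsize : baseSize cLevels = 3317760 := by decide +kernel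
  rw [hsize] at hb
  have h1 : 3317760 ≤ Nat.card ↥(Subgroup.closure (wordVal xgen '' {u | u ∈ cU0})) :=
    (Nat.le_mul_of_pos_right _ Nat.card_pos).trans hb
  have h2 := Subgroup.card_le_of_le hle
  have h3 := card_centralizer_le
  exact ⟨Subgroup.eq_of_le_of_card_ge hle (h3.trans h1), le_antisymm h3 (h1.trans h2)⟩

theorem card_Cz : Nat.card Cz = 3317760 := closure_cU0.2

theorem Cz_normalizes {c : Cfsg.Spor.Suz} (hc : c ∈ Cz) {a : Cfsg.Spor.Suz} (ha : a ∈ QS) : c * a * c⁻¹ ∈ QS := by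
  have h := norm_ok
  simp only [normB, List.all_eq_true, List.mem_range, Bool.and_eq_true, Nat.blt_eq] at h
  have hgen : ∀ g < 14, ∀ b ∈ QS, wordVal xgen (cU0.getD g []) * b * (wordVal xgen (cU0.getD g []))⁻¹ ∈ QS := by
    intro g hg b hb
    have hu : cU0.getD g [] ∈ cU0 := by
      rw [List.getD_eq_getElem _ _ (by rw [cU0_len]; exact hg)]; exact List.getElem_mem _
    have hC : wordVal xgen (cU0.getD g []) ∈ Cz := closure_cU0.1 ▸ Subgroup.subset_closure ⟨_, hu, rfl⟩
    refine (Subgroup.closure_le (K := QS.comap (MulAut.conj (wordVal xgen (cU0.getD g []))).toMonoidHom)).2 ?_ hb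
    rintro _ (rfl | ⟨j, hj, rfl⟩)
    · show _ * invA * _⁻¹ ∈ QS
      rw [mem_Cz.1 hC, mul_inv_cancel_right]; exact invA_mem
    · show _ * xE j * _⁻¹ ∈ QS
      have e := eq_of_sameW (app_lt (app_lt (rev_lt (gens_lt _ hu)) (xW_lt _)) (gens_lt _ hu)) (qW_lt _) (h g hg j hj).2
      rw [val_conj] at e
      rw [xE, e]
      exact qE_mem _
  have hc' : c ∈ Submonoid.closure (wordVal xgen '' {u | u ∈ cU0}) := by
    rw [← Subgroup.closure_toSubmonoid_of_finite]
    show c ∈ Subgroup.closure _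
    rw [closure_cU0.1]
    exact hc
  clear hc
  revert a
  induction hc' using Submonoid.closure_induction with
  | mem x hx =>
    intro a ha
    obtain ⟨u, hu, rfl⟩ := hx
    obtain ⟨g, hg, rfl⟩ := List.getElem_of_mem (show u ∈ cU0 from hu)
    have := hgen g (by rw [← cU0_len]; exact hg) a ha
    rwa [List.getD_eq_getElem _ _ hg] at this
  | one => intro a ha; simpa using ha
  | mul x y _ _ hx hy =>
    intro a ha
    have e : x * y * a * (x * y)⁻¹ = x * (y * a * y⁻¹) * x⁻¹ := by group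
    rw [e]
    exact hx (hy ha)

end Cfsg.Lib.CoSuz
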