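import Mathlib

/-! Generated data: six elements, their conjugates, and transversal words. -/

set_option autoImplicit false
set_option maxRecDepth 100000

namespace Cfsg.Lib.CoSuz

/-- The words of six elements. -/
def xWords : List (List Nat) :=
  [[2],
    [3, 2, 3],
    [6],
    [5],
    [4, 3, 2, 4, 3, 2, 4, 3, 2],
    [2, 5, 6, 1, 2, 3, 4, 5, 1, 2, 3, 2, 1, 5, 4, 3, 2, 1, 6, 1, 2, 3, 4, 5, 1, 2, 3, 2, 1, 5, 4, 3, 2, 1]]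

/-- The codes of the conjugates of the six elements by the generators of the centraliser. -/
def normCodes : List (List Nat) :=
  [[1, 2, 4, 8, 112, 16],
    [2, 1, 4, 8, 80, 48],
    [1, 83, 4, 8, 80, 97],
    [2, 1, 4, 8, 96, 80],
    [1, 2, 4, 8, 16, 32],
    [1, 66, 4, 8, 16, 32],
    [1, 2, 68, 8, 16, 32],
    [1, 74, 69, 8, 16, 32],
    [65, 66, 4, 8, 112, 16],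
    [1, 2, 4, 72, 16, 32],
    [1, 70, 4, 73, 16, 32],
    [66, 65, 4, 8, 48, 96],
    [73, 74, 79, 8, 32, 112],
    [1, 43, 109, 8, 89, 96]]

/-- For each level: a word and the codes of the conjugates of the elements up to that level. -/
def levelData : List (List (List Nat × List Nat)) :=
  [[
    ([], [1]),
    ([3], [2]),
    ([3, 1, 2, 6, 1, 0, 1, 6, 2, 1, 3, 1, 2, 5, 1, 0, 1, 5, 2, 1], [4]),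
    ([3, 1, 2, 6, 1, 0, 1, 6, 2, 1, 3], [69]),
    ([3, 1, 2, 6, 1, 0, 1, 6, 2, 1], [70]),
    ([3, 1, 2, 5, 1, 0, 1, 5, 2, 1, 3, 1, 2, 6, 1, 0, 1, 6, 2, 1], [8]),
    ([3, 1, 2, 5, 1, 0, 1, 5, 2, 1, 3], [73]),
    ([3, 1, 2, 5, 1, 0, 1, 5, 2, 1], [74]),
    ([3, 1, 2, 6, 1, 0, 1, 6, 2, 1, 1, 2, 5, 1, 0, 1, 5, 2, 1], [79]),
    ([3, 4], [83]),
    ([3, 4, 1, 2, 6, 1, 0, 1, 6, 2, 1], [23]),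
    ([3, 4, 1, 2, 5, 1, 0, 1, 5, 2, 1], [27]),
    ([3, 4, 1, 2, 6, 1, 0, 1, 6, 2, 1, 1, 2, 5, 1, 0, 1, 5, 2, 1, 3, 1, 2, 6, 1, 0, 1, 6, 2, 1], [28]),
    ([3, 4, 1, 2, 6, 1, 0, 1, 6, 2, 1, 1, 2, 5, 1, 0, 1, 5, 2, 1, 3], [93]),
    ([3, 4, 1, 2, 6, 1, 0, 1, 6, 2, 1, 1, 2, 5, 1, 0, 1, 5, 2, 1], [30]),
    ([3, 4, 1, 0, 2, 5, 1, 0, 2, 1, 3, 2, 1, 5, 3, 2, 1], [99]),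
    ([3, 4, 1, 0, 2, 5, 1, 0, 2, 1, 3, 2, 1, 5, 3, 2, 1, 1, 2, 6, 1, 0, 1, 6, 2, 1], [39]),
    ([3, 1, 2, 3, 4, 5, 1, 2, 3, 2, 1, 5, 4, 3, 2, 1], [43]),
    ([3, 4, 1, 2, 6, 1, 0, 1, 6, 2, 1, 1, 0, 2, 5, 1, 0, 2, 1, 3, 2, 1, 5, 3, 2, 1], [44]),
    ([3, 1, 2, 3, 4, 5, 1, 2, 3, 2, 1, 5, 4, 3, 2, 1, 4, 1, 2, 6, 1, 0, 1, 6, 2, 1, 3], [45]),
    ([3, 1, 2, 3, 4, 5, 1, 2, 3, 2, 1, 5, 4, 3, 2, 1, 1, 2, 6, 1, 0, 1, 6, 2, 1], [110]),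
    ([3, 4, 1, 0, 1, 0, 2, 1, 3, 2, 3, 1, 0, 1, 2, 0, 1], [51]),
    ([3, 4, 1, 2, 6, 1, 0, 1, 6, 2, 1, 1, 0, 1, 0, 2, 1, 3, 2, 3, 1, 0, 1, 2, 0, 1], [119]),
    ([3, 1, 2, 3, 4, 5, 1, 2, 3, 2, 1, 5, 4, 3, 2, 1, 4], [123]),
    ([3, 4, 1, 2, 6, 1, 0, 1, 6, 2, 1, 1, 0, 2, 5, 1, 0, 2, 1, 3, 2, 1, 5, 3, 2, 1, 3], [60]),
    ([3, 1, 2, 3, 4, 5, 1, 2, 3, 2, 1, 5, 4, 3, 2, 1, 1, 2, 6, 1, 0, 1, 6, 2, 1, 3], [125]),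
    ([3, 1, 2, 3, 4, 5, 1, 2, 3, 2, 1, 5, 4, 3, 2, 1, 4, 1, 2, 6, 1, 0, 1, 6, 2, 1], [62])],
   [
    ([], [1, 2]),
    ([1, 2, 6, 1, 0, 1, 6, 2, 1], [1, 70]),
    ([1, 2, 5, 1, 0, 1, 5, 2, 1], [1, 74]),
    ([1, 2, 6, 1, 0, 1, 6, 2, 1, 1, 2, 5, 1, 0, 1, 5, 2, 1], [1, 79]),
    ([4], [1, 83]),
    ([4, 1, 2, 6, 1, 0, 1, 6, 2, 1], [1, 23]),
    ([4, 1, 2, 5, 1, 0, 1, 5, 2, 1], [1, 27]),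
    ([4, 1, 2, 6, 1, 0, 1, 6, 2, 1, 1, 2, 5, 1, 0, 1, 5, 2, 1], [1, 30]),
    ([4, 1, 0, 1, 2, 3, 2, 1, 0, 3, 2, 3, 1, 2, 0, 1, 3], [65, 99]),
    ([4, 1, 2, 6, 1, 0, 1, 6, 2, 1, 1, 0, 1, 2, 3, 2, 1, 0, 3, 2, 3, 1, 2, 0, 1, 3], [65, 39]),
    ([1, 2, 3, 4, 5, 1, 2, 3, 2, 1, 5, 4, 3, 2, 1], [1, 43]),
    ([1, 2, 3, 4, 5, 1, 2, 3, 2, 1, 5, 4, 3, 2, 1, 1, 2, 6, 1, 0, 1, 6, 2, 1], [1, 110]),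
    ([4, 1, 0, 1, 0, 2, 1, 3, 2, 3, 1, 0, 1, 2, 0, 1], [65, 51]),
    ([4, 1, 2, 6, 1, 0, 1, 6, 2, 1, 1, 0, 1, 0, 2, 1, 3, 2, 3, 1, 0, 1, 2, 0, 1], [65, 119]),
    ([1, 2, 3, 4, 5, 1, 2, 3, 2, 1, 5, 4, 3, 2, 1, 4], [1, 123]),
    ([1, 2, 3, 4, 5, 1, 2, 3, 2, 1, 5, 4, 3, 2, 1, 4, 1, 2, 6, 1, 0, 1, 6, 2, 1], [1, 62])],
   [
    ([], [1, 2, 4]),
    ([1, 0, 2, 5, 1, 0, 2, 1, 3, 2, 1, 5, 3, 2, 1, 1, 2, 6, 1, 0, 1, 6, 2, 1, 3, 4, 1, 2, 6, 1, 0, 1, 6, 2, 1, 3, 1, 2, 5, 1, 0, 1, 5, 2, 1, 3, 4], [1, 66, 72]),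
    ([1, 0, 2, 5, 1, 0, 2, 1, 3, 2, 1, 5, 3, 2, 1, 4, 3, 1, 2, 5, 1, 0, 1, 5, 2, 1, 3, 4], [1, 2, 28]),
    ([4, 3, 1, 2, 5, 1, 0, 1, 5, 2, 1, 3, 4, 1, 0, 2, 5, 1, 0, 2, 1, 3, 2, 1, 5, 3, 2, 1], [1, 2, 44]),
    ([4, 3, 4, 1, 2, 5, 1, 0, 1, 5, 2, 1, 3, 4, 1, 0, 2, 5, 1, 0, 2, 1, 3, 2, 1, 5, 3, 2, 1, 3], [1, 2, 60])],
   [
    ([], [1, 2, 4, 8]),
    ([4, 3, 4, 1, 2, 6, 1, 0, 1, 6, 2, 1, 3, 4, 1, 2, 6, 1, 0, 1, 6, 2, 1, 3, 1, 2, 6, 1, 0, 1, 6, 2, 1], [1, 2, 4, 92]),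
    ([4, 3, 1, 2, 6, 1, 0, 1, 6, 2, 1, 3, 4, 1, 0, 1, 0, 2, 1, 3, 2, 3, 1, 0, 1, 2, 0, 1, 4, 3, 1, 2, 6, 1, 0, 1, 6, 2, 1, 3, 4], [65, 66, 4, 108]),
    ([4, 3, 1, 2, 6, 1, 0, 1, 6, 2, 1, 3, 4, 1, 0, 1, 2, 3, 2, 1, 0, 3, 2, 3, 1, 2, 0, 1, 4, 3, 4, 1, 2, 6, 1, 0, 1, 6, 2, 1, 3, 4], [65, 66, 4, 124])],
   [
    ([], [1, 2, 4, 8, 16]),
    ([1, 0, 1, 2, 3, 2, 1, 0, 3, 2, 3, 1, 2, 0, 1, 3], [65, 66, 4, 8, 32]),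
    ([1, 0, 1, 0, 2, 1, 3, 2, 3, 1, 0, 1, 2, 0, 1], [65, 66, 4, 8, 112])],
   [
    ([], [1, 2, 4, 8, 16, 32])]]

/-- A conjugator moving the involution into the subgroup. -/
def moveWord : List Nat := [1, 0, 1, 0, 2, 1]

end Cfsg.Lib.CoSuz
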