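import Cfsg.Agent.Lib.CosetEnum.Groups.SuzCentralizer
import Cfsg.Agent.Lib.CoSuz.InvolData

/-! Kernel checks for the involution centraliser of the sporadic group with 1782 points. -/

set_option autoImplicit false
set_option maxRecDepth 100000
set_option Elab.async false

namespace Cfsg.Lib.CoSuz

open Cfsg.Lib.CosetEnum Cfsg.Lib.CosetEnum.SuzOut Cfsg.Lib.CosetEnum.SuzMult

/-- The word of one of the six elements. -/
def xW (j : ℕ) : List ℕ := xWords.getD j []

/-- The word of a code. -/
def qW (v : ℕ) : List ℕ :=
  (bif v.testBit 6 then [0] else []) ++
    ([5, 4, 3, 2, 1, 0] : List ℕ).flatMap fun i => bif v.testBit i then xW i else []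

/-- The code after multiplying by one of the six elements. -/
def stepC (j v : ℕ) : ℕ :=
  (v ^^^ 2 ^ j) ^^^ (bif (Nat.ble 4 j && v.testBit j) ^^ (Nat.beq (j % 2) 1 && v.testBit (j - 1)) then 64 else 0)

/-- The six elements are good. -/
noncomputable def xB : Bool :=
  (List.range 6).all fun j => centOK (xW j) && sameW (qW (2 ^ j)) (xW j)

/-- Multiplying by one of the six elements. -/
noncomputable def mulB (a : ℕ) : Bool :=
  (List.range' (16 * a) 16).all fun v => (List.range 6).all fun j =>
    Nat.blt (stepC j v) 128 && sameW (qW v ++ xW j) (qW (stepC j v))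

/-- The squares and the commuting pattern. -/
noncomputable def formB (a : ℕ) : Bool :=
  (List.range' (16 * a) 16).all fun v =>
    (sameW (qW v ++ qW v) [] || sameW (qW v ++ qW v) [0]) &&
      (List.range 6).all fun j => sameW (qW v ++ xW j) (xW j ++ qW v) == !v.testBit (j ^^^ 1)

/-- The generators of the centraliser normalise. -/
noncomputable def normB : Bool :=
  (List.range 14).all fun g => (List.range 6).all fun j =>
    let c := cU0.getD g []
    let v := (normCodes.getD g []).getD j 0
    Nat.blt v 128 && sameW (c.reverse ++ xW j ++ c) (qW v)

/-- The words of a level. -/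
noncomputable def levelB (i : ℕ) : Bool :=
  let L := levelData.getD i []
  (L.all fun e => centOK e.1 && (List.range (i + 1)).all fun j =>
    Nat.blt (e.2.getD j 0) 128 && sameW (e.1.reverse ++ xW j ++ e.1) (qW (e.2.getD j 0)) &&
      (Nat.beq i j || Nat.beq (e.2.getD j 0 % 64) (2 ^ j))) &&
    Nat.beq L.length ([27, 16, 5, 4, 3, 1].getD i 0) &&
      nodupB (L.map fun e => e.2.getD i 0 % 64)

/-- A conjugate inside. -/
noncomputable def moveB : Bool :=
  letters moveWord && sameW (moveWord.reverse ++ [0] ++ moveWord) (qW 1)

theorem x_ok : xB = true := by decide +kernel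
theorem mul_ok0 : mulB 0 = true := by decide +kernel
theorem mul_ok1 : mulB 1 = true := by decide +kernel
theorem mul_ok2 : mulB 2 = true := by decide +kernel
theorem mul_ok3 : mulB 3 = true := by decide +kernel
theorem mul_ok4 : mulB 4 = true := by decide +kernel
theorem mul_ok5 : mulB 5 = true := by decide +kernel
theorem mul_ok6 : mulB 6 = true := by decide +kernel
theorem mul_ok7 : mulB 7 = true := by decide +kernel
theorem form_ok0 : formB 0 = true := by decide +kernel
theorem form_ok1 : formB 1 = true := by decide +kernel
theorem form_ok2 : formB 2 = true := by decide +kernel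
theorem form_ok3 : formB 3 = true := by decide +kernel
theorem form_ok4 : formB 4 = true := by decide +kernel
theorem form_ok5 : formB 5 = true := by decide +kernel
theorem form_ok6 : formB 6 = true := by decide +kernel
theorem form_ok7 : formB 7 = true := by decide +kernel
theorem norm_ok : normB = true := by decide +kernel
theorem level_ok0 : levelB 0 = true := by decide +kernel
theorem level_ok1 : levelB 1 = true := by decide +kernel
theorem level_ok2 : levelB 2 = true := by decide +kernel
theorem level_ok3 : levelB 3 = true := by decide +kernel
theorem level_ok4 : levelB 4 = true := by decide +kernel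
theorem level_ok5 : levelB 5 = true := by decide +kernel
theorem move_ok : moveB = true := by decide +kernel

end Cfsg.Lib.CoSuz
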