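import Cfsg.Agent.Lib.CoSuz.Invol
import Cfsg.Agent.Lib.Fischer.Relations.TwoPair.Fitting
import Cfsg.Agent.Lib.SUSixU43.Codes

/-!
# The presented sporadic group with 1782 points is of Suzuki sporadic type
-/

set_option autoImplicit false
set_option maxRecDepth 100000
set_option linter.style.haveILetI false

namespace Cfsg.Lib.CoSuz

open Cfsg Cfsg.Lib.CosetEnum Cfsg.Lib.CosetEnum.SuzOut Cfsg.Lib.CosetEnum.SuzMult
open Cfsg.Lib.Linear Cfsg.Lib.Linear.Orth
open scoped Matrix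

theorem conj_mul_invA {c : Cfsg.Spor.Suz} (hc : c ∈ Cz) (a : Cfsg.Spor.Suz) :
    c * (a * invA) * c⁻¹ = c * a * c⁻¹ * invA := by
  calc c * (a * invA) * c⁻¹ = c * a * c⁻¹ * (c * invA * c⁻¹) := by group
    _ = _ := by rw [mem_Cz.1 hc, mul_inv_cancel_right]

/-- Fixing the first six elements up to the involution. -/
def Fixes (i : ℕ) (c : Cfsg.Spor.Suz) : Prop :=
  c ∈ Cz ∧ ∀ j < i, j < 6 → c * xE j * c⁻¹ = xE j ∨ c * xE j * c⁻¹ = xE j * invA

theorem fixes_mul {i : ℕ} {c d : Cfsg.Spor.Suz} (hc : Fixes i c) (hd : Fixes i d) : Fixes i (c * d) := by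
  refine ⟨mul_mem hc.1 hd.1, fun j hj hj6 => ?_⟩
  rw [show c * d * xE j * (c * d)⁻¹ = c * (d * xE j * d⁻¹) * c⁻¹ by group]
  rcases hd.2 j hj hj6 with e | e <;> rw [e] <;> rcases hc.2 j hj hj6 with e' | e'
  · exact Or.inl e'
  · exact Or.inr e'
  · exact Or.inr (by rw [conj_mul_invA hc.1, e'])
  · exact Or.inl (by rw [conj_mul_invA hc.1, e', mul_assoc, invA_sq, mul_one])

/-- The stabiliser of a level. -/
def stab6 (i : ℕ) : Subgroup Cfsg.Spor.Suz where
  carrier := {c | Fixes i c}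
  one_mem' := ⟨one_mem _, fun j _ _ => Or.inl (by simp)⟩
  mul_mem' := fixes_mul
  inv_mem' {c} hc := by
    refine ⟨inv_mem hc.1, fun j hj hj6 => ?_⟩
    rw [inv_inv]
    rcases hc.2 j hj hj6 with e | e
    · refine Or.inl ?_
      calc c⁻¹ * xE j * c = c⁻¹ * (c * xE j * c⁻¹) * c := by rw [e]
        _ = xE j := by group
    · refine Or.inr ?_
      have e2 : c * (xE j * invA) * c⁻¹ = xE j := by rw [conj_mul_invA hc.1, e, mul_assoc, invA_sq, mul_one]
      calc c⁻¹ * xE j * c = c⁻¹ * (c * (xE j * invA) * c⁻¹) * c := by rw [e2]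
        _ = xE j * invA := by group

theorem mem_stab6 {i : ℕ} {c : Cfsg.Spor.Suz} : c ∈ stab6 i ↔ Fixes i c := Iff.rfl

theorem QS_le_stab (i : ℕ) : QS ≤ stab6 i := fun a ha => by
  refine ⟨QS_le ha, fun j _ hj => ?_⟩
  rcases comm_mem ha (xE_mem hj) with e | e
  · exact Or.inl (mul_inv_eq_one.1 e)
  · refine Or.inr ?_
    rw [mul_inv_eq_iff_eq_mul.1 e, (invA_comm (xE_mem hj)).eq]

theorem qE_low {v j : ℕ} (hv : v < 128) (hj : j < 6) (h : v % 64 = 2 ^ j) :
    qE v = xE j ∨ qE v = xE j * invA := by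
  rw [← qE_pow hj]
  rcases Nat.lt_or_ge v 64 with h1 | h1
  · exact Or.inl (by rw [show v = 2 ^ j by omega])
  · refine Or.inr ?_
    rw [← qE_add (show 2 ^ j < 64 from lt_of_lt_of_le (Nat.pow_lt_pow_right (by norm_num) hj) (by norm_num)), show v = 2 ^ j + 64 by omega]

theorem qE_mod_eq {v w : ℕ} (hv : v < 128) (hw : w < 128) (h : qE v = qE w ∨ qE v = qE w * invA) : v % 64 = w % 64 := by
  refine qE_bits hv hw fun j hj => ?_
  rcases h with e | e <;> rw [e]
  have hc : Commute (xE j) invA := (invA_central hj).symm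
  refine ⟨fun h => ?_, fun h => h.mul_right hc⟩
  have := h.mul_right hc
  rwa [mul_assoc, invA_sq, mul_one] at this

theorem level_facts {i : ℕ} (hi : i < 6) :
    ([27, 16, 5, 4, 3, 1].getD i 0) * Nat.card ↥(stab6 (i + 1)) ≤ Nat.card ↥(stab6 i) := by
  classical
  have h : levelB i = true := by
    interval_cases i
    exacts [level_ok0, level_ok1, level_ok2, level_ok3, level_ok4, level_ok5]
  simp only [levelB, Bool.and_eq_true, List.all_eq_true, List.mem_range, Nat.blt_eq, Bool.or_eq_true, Nat.beq_eq] at h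
  obtain ⟨⟨hall, hlen⟩, hnd⟩ := h
  set L := levelData.getD i [] with hL
  have hmem : ∀ k : Fin L.length, L[k.1] ∈ L := fun k => List.getElem_mem _
  have hval : ∀ k : Fin L.length, ∀ j ≤ i,
      wordVal xgen L[k.1].1 * xE j * (wordVal xgen L[k.1].1)⁻¹ = qE (L[k.1].2.getD j 0) := fun k j hj => by
    obtain ⟨hc, hj'⟩ := hall _ (hmem k)
    have hw := (cent_of_ok hc).1
    have e := eq_of_sameW (app_lt (app_lt (rev_lt hw) (xW_lt _)) hw) (qW_lt _) (hj' j (by omega)).1.2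
    rwa [val_conj] at e
  have hw : ∀ k : Fin L.length, wordVal xgen L[k.1].1 ∈ stab6 i := fun k => by
    obtain ⟨hc, hj'⟩ := hall _ (hmem k)
    refine ⟨(cent_of_ok hc).2, fun j hj hj6 => ?_⟩
    rw [hval k j hj.le]
    obtain ⟨⟨hlt, -⟩, hor⟩ := hj' j (by omega)
    exact qE_low hlt hj6 (hor.resolve_left (by omega))
  have hsub : stab6 (i + 1) ≤ stab6 i := fun c hc => ⟨hc.1, fun j hj hj6 => hc.2 j (by omega) hj6⟩
  let f : Fin L.length × ↥(stab6 (i + 1)) → ↥(stab6 i) :=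
    fun p => ⟨wordVal xgen L[p.1.1].1 * p.2.1, mul_mem (hw p.1) (hsub p.2.2)⟩
  have hinj : Function.Injective f := by
    rintro ⟨k, a⟩ ⟨k', a'⟩ e
    have e' : wordVal xgen L[k.1].1 * a.1 = wordVal xgen L[k'.1].1 * a'.1 := congrArg Subtype.val e
    have himg : ∀ (k : Fin L.length) (a : ↥(stab6 (i + 1))),
        wordVal xgen L[k.1].1 * a.1 * xE i * (wordVal xgen L[k.1].1 * a.1)⁻¹ = qE (L[k.1].2.getD i 0) ∨
        wordVal xgen L[k.1].1 * a.1 * xE i * (wordVal xgen L[k.1].1 * a.1)⁻¹ = qE (L[k.1].2.getD i 0) * invA := by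
      intro k a
      rw [show wordVal xgen L[k.1].1 * a.1 * xE i * (wordVal xgen L[k.1].1 * a.1)⁻¹ =
        wordVal xgen L[k.1].1 * (a.1 * xE i * a.1⁻¹) * (wordVal xgen L[k.1].1)⁻¹ by group]
      rcases a.2.2 i (Nat.lt_succ_self i) hi with h | h <;> rw [h]
      · exact Or.inl (hval k i le_rfl)
      · exact Or.inr (by rw [conj_mul_invA (hw k).1, hval k i le_rfl])
    have hkk : qE (L[k.1].2.getD i 0) = qE (L[k'.1].2.getD i 0) ∨
        qE (L[k.1].2.getD i 0) = qE (L[k'.1].2.getD i 0) * invA := by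
      have p1 := himg k a
      have p2 := himg k' a'
      rw [e'] at p1
      rcases p1 with p1 | p1 <;> rcases p2 with p2 | p2 <;> rw [p2] at p1
      · exact Or.inl p1.symm
      · exact Or.inr p1.symm
      · exact Or.inr (by rw [p1, mul_assoc, invA_sq, mul_one])
      · exact Or.inl (mul_right_cancel p1).symm
    have hlt : ∀ k : Fin L.length, L[k.1].2.getD i 0 < 128 := fun k => ((hall _ (hmem k)).2 i (Nat.lt_succ_self i)).1.1
    have hmod := qE_mod_eq (hlt k) (hlt k') hkk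
    have hnd' : (L.map fun e => e.2.getD i 0 % 64).Nodup := by
      have aux : ∀ l : List ℕ, nodupB l = true → l.Nodup := by
        intro l
        induction l with
        | nil => exact fun _ => List.nodup_nil
        | cons a l ih =>
          intro h
          simp only [nodupB, Bool.and_eq_true, List.all_eq_true, Bool.not_eq_true', ← Bool.not_eq_true,
            Nat.beq_eq] at h
          exact List.nodup_cons.2 ⟨fun ha => h.1 a ha rfl, ih h.2⟩
      exact aux _ hnd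
    obtain rfl : k = k' := Fin.ext ((hnd'.getElem_inj_iff (hi := by simp) (hj := by simp)).1 (by simpa using hmod))
    exact Prod.ext rfl (Subtype.ext (mul_left_cancel e'))
  have := Nat.card_le_card_of_injective f hinj
  rwa [Nat.card_prod, Nat.card_fin, hlen] at this

theorem stab_six : stab6 6 = QS := by
  have h0 : stab6 0 = Cz := Subgroup.ext fun c => ⟨fun h => h.1, fun h => ⟨h, fun j hj => absurd hj (Nat.not_lt_zero j)⟩⟩
  have hk : 25920 * Nat.card ↥(stab6 6) ≤ Nat.card Cz := by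
    rw [← h0]
    have a0 := level_facts (i := 0) (by norm_num)
    have a1 := level_facts (i := 1) (by norm_num)
    have a2 := level_facts (i := 2) (by norm_num)
    have a3 := level_facts (i := 3) (by norm_num)
    have a4 := level_facts (i := 4) (by norm_num)
    have a5 := level_facts (i := 5) (by norm_num)
    simp only [List.getD_cons_succ, List.getD_cons_zero] at a0 a1 a2 a3 a4 a5
    norm_num at a0 a1 a2 a3 a4 a5
    omega
  rw [card_Cz] at hk
  refine (Subgroup.eq_of_le_of_card_ge (QS_le_stab 6) ?_).symm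
  rw [card_QS]
  omega

theorem ctx_QS : Cfsg.Lib.Extra.Ctx QS invA where
  mem := invA_mem
  ne_one := invA_ne_one
  sq_z := invA_sq
  central := fun _ ha => invA_comm ha
  comm := fun _ ha _ hb => comm_mem ha hb
  sq := fun _ ha => sq_mem ha
  cent := fun g hg => by
    have hgC : g ∈ Cz := mem_Cz.2 (hg invA invA_mem).eq
    have hgQ : g ∈ QS := by
      rw [← stab_six]
      refine ⟨hgC, fun j _ hj => Or.inl ?_⟩
      rw [(hg _ (xE_mem hj)).eq, mul_inv_cancel_right]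
    exact centre_QS hgQ fun j hj => (hg _ (xE_mem hj)).symm
  norm := fun c hc => by
    refine Subgroup.mem_normalizer_iff.2 fun a => ⟨fun ha => Cz_normalizes (mem_Cz.2 hc.eq) ha, fun ha => ?_⟩
    have := Cz_normalizes (inv_mem (mem_Cz.2 hc.eq)) ha
    simpa [mul_assoc] using this
  two := IsPGroup.of_card (n := 7) (by rw [card_QS]; norm_num)

instance QS_normal : (QS.subgroupOf Cz).Normal :=
  ⟨fun a ha c => Subgroup.mem_subgroupOf.2 (Cz_normalizes c.2 (Subgroup.mem_subgroupOf.1 ha))⟩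

/-- The centraliser hypothesis in the form of the statement. -/
theorem type_data : orderOf invA = 2 ∧ ∃ (Q : Subgroup Cz) (_ : Q.Normal),
      Cfsg.generalizedFittingSubgroup Cz = Q ∧ Cfsg.IsExtraspecial 2 Q ∧ Nat.card Q = 2 ^ 7 ∧
      Nonempty (↥Cz ⧸ Q ≃* Cfsg.Omega (ZMod 2) (Cfsg.quadFormMinus 2 (ZMod 2) 1 1)) ∧
      ∃ g : Cfsg.Spor.Suz, (∃ hq : g * invA * g⁻¹ ∈ Cz, (⟨g * invA * g⁻¹, hq⟩ : Cz) ∈ Q) ∧
        g * invA * g⁻¹ ≠ invA := by
  classical
  haveI : Fact (Nat.Prime 2) := ⟨Nat.prime_two⟩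
  have hz : orderOf invA = 2 := orderOf_eq_prime (by rw [sq]; exact invA_sq) invA_ne_one
  set Qc : Subgroup Cz := QS.subgroupOf Cz
  have hext : Cfsg.IsExtraspecial 2 ↥Qc :=
    Cfsg.Lib.Extra.isExtraspecial_congr (Subgroup.subgroupOfEquivOfLe QS_le).symm isExtraspecial_QS
  have hcard : Nat.card Qc = 2 ^ 7 := by
    rw [Nat.card_congr (Subgroup.subgroupOfEquivOfLe QS_le).toEquiv, card_QS]; norm_num
  have hquot : Nat.card (↥Cz ⧸ Qc) = 25920 := by
    have h := Subgroup.card_mul_index Qc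
    rw [hcard, card_Cz, Subgroup.index_eq_card] at h
    omega
  have hker : ∀ c : Cz, (QuotientGroup.mk' Qc) c = 1 ↔ (c : Cfsg.Spor.Suz) ∈ QS := fun c =>
    (QuotientGroup.eq_one_iff c).trans Subgroup.mem_subgroupOf
  have hO : Nat.card ↥(Cfsg.Omega (ZMod 2) (Cfsg.quadFormMinus 2 (ZMod 2) 1 1)) = 25920 := by
    obtain ⟨Bm, Sm⟩ := exists_space_minus (F := ZMod 2) 2 1 1 Cfsg.Lib.Extra.Wide.aniso_two
    have h := Cfsg.Lib.Extra.Wide.two_mul_card_omega Sm (by simp)
    rw [Cfsg.Lib.Extra.Wide.card_minus_six] at h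
    omega
  rcases Cfsg.Lib.Extra.model_cases isExtraspecial_QS 2 (by rw [card_QS]; norm_num) with ⟨⟨f⟩⟩ | ⟨⟨f⟩⟩
  · exfalso
    obtain ⟨Bp, Sp⟩ := exists_space_plus (F := ZMod 2) 3
    obtain ⟨-, -, R, hRc, hRle, -⟩ := Cfsg.Lib.Extra.Wide.exists_action ctx_QS
      (Cfsg.Lib.Extra.pairForm_nondeg _) (Cfsg.Lib.Extra.plusCoords 3) (Cfsg.Lib.Extra.plus_form 3) Sp f
      (QuotientGroup.mk' Qc) (QuotientGroup.mk'_surjective Qc) hker
    have h := Subgroup.card_dvd_of_le hRle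
    rw [hRc, hquot, Cfsg.Lib.Extra.Wide.card_plus_six] at h
    norm_num at h
  obtain ⟨Bm, Sm⟩ := exists_space_minus (F := ZMod 2) 2 1 1 Cfsg.Lib.Extra.Wide.aniso_two
  obtain ⟨cls, act, R, hRc, hRle, -, -, -, -, -, hmul, hR1, hR2, hk, -⟩ := Cfsg.Lib.Extra.Wide.exists_action ctx_QS
      (Cfsg.Lib.Extra.pairForm_nondeg _) (Cfsg.Lib.Extra.minusCoords 2) (Cfsg.Lib.Extra.minus_form 2) Sm f
      (QuotientGroup.mk' Qc) (QuotientGroup.mk'_surjective Qc) hker
  have hR := Cfsg.Lib.Extra.Wide.eq_omega Sm (by simp) hRle (by rw [hRc, hquot, hO])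
  set q := Cfsg.quadFormMinus 2 (ZMod 2) 1 1
  have hcom : ∀ c : Cz, Commute (c : Cfsg.Spor.Suz) invA := fun c => mem_Cz.1 c.2
  let A : ↥Cz →* ↥(Cfsg.isometryGroup (ZMod 2) q) :=
    { toFun := fun c => ⟨act c, hRle (hR1 _ (hcom c))⟩
      map_one' := Subtype.ext ((hk 1 (Commute.one_left _)).2 (one_mem _))
      map_mul' := fun c d => Subtype.ext (hmul _ _ (hcom c) (hcom d)) }
  have hAk : A.ker = Qc := by
    ext c
    rw [MonoidHom.mem_ker, Subgroup.mem_subgroupOf, ← hk _ (hcom c)]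
    exact ⟨fun h => congrArg Subtype.val h, fun h => Subtype.ext h⟩
  have hAr : A.range = Cfsg.Omega (ZMod 2) q := by
    ext u
    constructor
    · rintro ⟨c, rfl⟩
      have := hR1 _ (hcom c)
      rw [hR] at this
      obtain ⟨w, hw, e⟩ := this
      rwa [show A c = w from Subtype.ext e.symm]
    · intro hu
      have : (u : GL ((Fin 2 ⊕ Fin 2) ⊕ Fin 2) (ZMod 2)) ∈ R := by rw [hR]; exact ⟨u, hu, rfl⟩
      obtain ⟨c, hc, e⟩ := hR2 _ this
      exact ⟨⟨c, mem_Cz.2 hc.eq⟩, Subtype.ext e⟩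
  have hP : Cfsg.pCore 2 ↥Cz = Qc := by
    refine le_antisymm ?_ (Cfsg.Lib.Core.le_pCore hext.1.1)
    rw [← hAk, ← Subgroup.map_eq_bot_iff]
    set P := (Cfsg.pCore 2 ↥Cz).map A with hPdef
    have hPle : P ≤ Cfsg.Omega (ZMod 2) q := hAr ▸ Subgroup.map_le_range A _
    have hPp : IsPGroup 2 P := (Cfsg.Lib.Core.pCore_isPGroup 2 ↥Cz).map A
    have hPn : (P.subgroupOf (Cfsg.Omega (ZMod 2) q)).Normal := by
      refine ⟨fun p hp w => ?_⟩
      rw [Subgroup.mem_subgroupOf] at hp ⊢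
      obtain ⟨x, hx, e⟩ := hp
      obtain ⟨y, hy⟩ : (w : ↥(Cfsg.isometryGroup (ZMod 2) q)) ∈ A.range := hAr.symm ▸ w.2
      refine ⟨y * x * y⁻¹, (inferInstance : (Cfsg.pCore 2 ↥Cz).Normal).conj_mem x hx y, ?_⟩
      rw [map_mul, map_mul, map_inv, e, hy]
      rfl
    haveI : (Cfsg.Omega (ZMod 2) q).Normal := inferInstance
    have hle : P ≤ Cfsg.pCore 2 ↥(Cfsg.isometryGroup (ZMod 2) q) := by
      have h1 := Cfsg.Lib.Core.pCore_map_le_of_normal (p := 2)
        (H := Cfsg.Omega (ZMod 2) q) (K := (⊤ : Subgroup ↥(Cfsg.isometryGroup (ZMod 2) q))) le_top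
      have h2 : P.subgroupOf (Cfsg.Omega (ZMod 2) q) ≤ Cfsg.pCore 2 ↥(Cfsg.Omega (ZMod 2) q) :=
        Cfsg.Lib.Core.le_pCore' hPn (hPp.comap_subtype)
      have h3 := Cfsg.Lib.Core.pCore_map_le_of_isSubnormal (p := 2)
        (Subgroup.Normal.isSubnormal (inferInstance : (Cfsg.Omega (ZMod 2) q).Normal))
      refine le_trans ?_ ((Subgroup.map_mono h2).trans h3)
      rw [Subgroup.subgroupOf_map_subtype]
      exact le_inf le_rfl hPle
    obtain ⟨e⟩ := Cfsg.Lib.Fischer.Relations.TwoPair.isometry_six_minus_equiv (K := Cfsg.Lib.SUSixU43.R4)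
      (by rw [Cfsg.Lib.SUSixU43.card_r4]; norm_num)
    haveI : (Cfsg.pCore 2 ↥(Cfsg.isometryGroup (ZMod 2) q)).Normal := inferInstance
    haveI : ((Cfsg.pCore 2 ↥(Cfsg.isometryGroup (ZMod 2) q)).map e.toMonoidHom).Normal :=
      Subgroup.Normal.map inferInstance _ e.surjective
    have hb := Cfsg.Lib.Fischer.Relations.TwoPair.aut_two_bot (F := Cfsg.Lib.SUSixU43.R4)
      (by rw [Cfsg.Lib.SUSixU43.card_r4]; norm_num) _
      ((Cfsg.Lib.Core.pCore_isPGroup 2 ↥(Cfsg.isometryGroup (ZMod 2) q)).map e.toMonoidHom)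
    rw [Subgroup.map_eq_bot_iff_of_injective _ e.injective] at hb
    exact le_bot_iff.1 (hle.trans hb.le)
  have hF : Cfsg.generalizedFittingSubgroup ↥Cz = Qc := by
    rw [← hP]
    refine Cfsg.Lib.Core.generalizedFitting_eq_pCore_iff.2 fun g hg => ?_
    rw [hP] at hg ⊢
    rw [Subgroup.mem_subgroupOf]
    rcases ctx_QS.cent (g : Cfsg.Spor.Suz) (fun a ha => (congrArg Subtype.val
      (Subgroup.mem_centralizer_iff.1 hg ⟨a, QS_le ha⟩ (Subgroup.mem_subgroupOf.2 ha))).symm) with e | e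
    · rw [e]; exact one_mem _
    · rw [e]; exact invA_mem
  refine ⟨hz, Qc, inferInstance, hF, hext, hcard,
    ⟨(((QuotientGroup.quotientMulEquivOfEq hAk).symm).trans (QuotientGroup.quotientKerEquivRange A)).trans
      (MulEquiv.subgroupCongr hAr)⟩, wordVal xgen moveWord, ?_⟩
  have hm := move_ok
  simp only [moveB, Bool.and_eq_true] at hm
  have hlt : ∀ g ∈ moveWord, g < 7 := letters_lt hm.1
  have e := eq_of_sameW (app_lt (app_lt (rev_lt hlt) zero_lt7) hlt) (qW_lt _) hm.2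
  rw [val_conj, show wordVal xgen [0] = invA from rfl, show wordVal xgen (qW 1) = qE 1 from rfl] at e
  refine ⟨⟨by rw [e]; exact QS_le (qE_mem 1), Subgroup.mem_subgroupOf.2 (show wordVal xgen moveWord * invA * _ ∈ QS by
    rw [e]; exact qE_mem 1)⟩, ?_⟩
  rw [e, ← qE_top]
  exact fun h => absurd (qE_inj (by norm_num) (by norm_num) h) (by norm_num)

end Cfsg.Lib.CoSuz
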