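import Cfsg.Agent.Lib.CoSuz.Bound
import Cfsg.Agent.Lib.CoSuz.InvolType

/-! A section of the lattice group isomorphic to the presented group with 1782 points. -/

set_option autoImplicit false
set_option maxRecDepth 100000
set_option linter.style.haveILetI false

namespace Cfsg.Lib.CoSuz

open Cfsg Cfsg.Lib.Concrete Cfsg.Lib.CosetEnum
open Cfsg.Lib.Co1Out (coords coords_injective eList coords_e8 negElt negElt_apply negElt_mem)
open scoped Pointwise

attribute [local irreducible] matL decV vecF el nearL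

theorem elA_pow_three : elA ^ 3 = 1 := by
  have h := ord_ok
  simp only [ordB, Bool.and_eq_true] at h
  have e := prodL_eq_of_eqW h.1
  simp only [prodL, mul_one] at e
  rw [← e, elA, pow_succ, pow_succ, pow_one, mul_assoc]

theorem elA_ne : elA ≠ 1 := fun e => by
  have h := ord_ok
  simp only [ordB, Bool.and_eq_true, Bool.not_eq_true'] at h
  refine Bool.false_ne_true (h.2.symm.trans ?_)
  simp only [eqW, evalL_eq, List.all_eq_true, beq_iff_eq]
  intro i _
  rw [← coords_e8, ← coords_prodL, ← coords_prodL]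
  simp [prodL, show el 0 = 1 from e]

theorem elA_comm (g : Fin 8) : el g * elA = elA * el g := by
  have h := comm_ok
  simp only [commB, List.all_eq_true] at h
  have := prodL_eq_of_eqW (h g (List.mem_finRange _))
  simpa only [prodL, mul_one, elA] using this.symm

theorem el_mem_CA (g : Fin 8) : el g ∈ CA := Subgroup.mem_centralizer_singleton_iff.2 (elA_comm g)

/-- The element of order three and the negation. -/
def baseKer : Subgroup Co0 := Subgroup.zpowers elA ⊔ Subgroup.center Co0

theorem centre_cases {z : Co0} (hz : z ∈ Subgroup.center Co0) : z = 1 ∨ z = negElt := by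
  obtain ⟨s, hs, hv⟩ := mem_center_apply hz 0
  rcases hs with rfl | rfl
  · exact Or.inl (Cfsg.Lib.Co1Out.co0_ext fun i => Subtype.ext (by
      rw [show ((z • e8 i : leechLattice) : GolayPt → ℤ) = _ from hv (e8 i), one_smul, one_smul]))
  · exact Or.inr (Cfsg.Lib.Co1Out.co0_ext fun i => Subtype.ext (by
      rw [show ((z • e8 i : leechLattice) : GolayPt → ℤ) = _ from hv (e8 i), neg_one_smul, negElt_apply,
        AddSubgroup.coe_neg]))

theorem prodL_replicate : ∀ k, prodL (List.replicate k 0) = elA ^ k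
  | 0 => rfl
  | k + 1 => by rw [List.replicate_succ, prodL, prodL_replicate k, pow_succ']; rfl

theorem prodL_append : ∀ u v, prodL (u ++ v) = prodL u * prodL v
  | [], v => (one_mul _).symm
  | a :: u, v => by rw [List.cons_append, prodL, prodL, prodL_append u v, mul_assoc]

theorem eqS_iff (w : List (Fin 8)) : eqS w = true ↔
    ∃ k < 3, prodL w = elA ^ k ∨ prodL w = negElt * elA ^ k := by
  have key : ∀ (k : ℕ) (s : Co0) (f : List ℤ → List ℤ),
      (∀ v : leechLattice, coords ((s • v : leechLattice) : GolayPt → ℤ) = f (coords (v : GolayPt → ℤ))) →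
      (((List.finRange 24).all fun i => evalL w (eList i) fun a => evalL (List.replicate k 0) (eList i) fun b =>
        a == f b) = true ↔ prodL w = s * elA ^ k) := by
    intro k s f hf
    simp only [evalL_eq, List.all_eq_true, beq_iff_eq]
    constructor
    · intro h
      refine Cfsg.Lib.Co1Out.co0_ext fun p => Subtype.ext (coords_injective ?_)
      rw [← gpt_gidx p, coords_prodL, mul_smul, hf, ← prodL_replicate, coords_prodL, coords_e8]
      exact h _ (List.mem_finRange _)
    · intro h i _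
      rw [← coords_e8, ← coords_prodL, ← coords_prodL, prodL_replicate, ← hf, ← mul_smul, h]
  have k1 := fun k => key k 1 id fun v => by rw [one_smul]; rfl
  have k2 := fun k => key k negElt (List.map Neg.neg) fun v => by
    rw [negElt_apply, AddSubgroup.coe_neg, Cfsg.Lib.Co1Out.coords_neg]
  simp only [id_eq, one_mul] at k1
  simp only [eqS, List.any_eq_true, List.mem_range, Bool.or_eq_true, k1, k2]

theorem elA_pow_lt {a : Co0} (ha : a ∈ Subgroup.zpowers elA) : ∃ k < 3, a = elA ^ k := by
  obtain ⟨i, rfl⟩ := Subgroup.mem_zpowers_iff.1 ha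
  haveI : Fact (Nat.Prime 3) := ⟨by norm_num⟩
  refine ⟨(i % 3).toNat, by omega, ?_⟩
  rw [← zpow_natCast, Int.toNat_of_nonneg (Int.emod_nonneg _ (by norm_num))]
  conv_lhs => rw [← Int.emod_add_mul_ediv i 3]
  rw [zpow_add, zpow_mul, show (3 : ℤ) = ((3 : ℕ) : ℤ) from rfl, zpow_natCast elA 3, elA_pow_three, one_zpow, mul_one]

theorem mem_baseKer {w : List (Fin 8)} : prodL w ∈ baseKer ↔ eqS w = true := by
  rw [eqS_iff]
  haveI : (Subgroup.center Co0).Normal := inferInstance
  constructor
  · intro h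
    rw [baseKer, Subgroup.mem_sup_of_normal_right] at h
    obtain ⟨a, ha, z, hz, e⟩ := h
    obtain ⟨k, hk, rfl⟩ := elA_pow_lt ha
    refine ⟨k, hk, ?_⟩
    rcases centre_cases hz with rfl | rfl
    · exact Or.inl (by rw [← e, mul_one])
    · exact Or.inr (by rw [← e, Subgroup.mem_center_iff.1 negElt_mem])
  · rintro ⟨k, -, e | e⟩ <;> rw [e]
    · exact Subgroup.mem_sup_left (Subgroup.pow_mem _ (Subgroup.mem_zpowers _) _)
    · exact mul_mem (Subgroup.mem_sup_right negElt_mem) (Subgroup.mem_sup_left (Subgroup.pow_mem _ (Subgroup.mem_zpowers _) _))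

theorem baseKer_le : baseKer ≤ CA :=
  sup_le (Subgroup.zpowers_le.2 (Subgroup.mem_centralizer_singleton_iff.2 rfl)) fun _ hz =>
    Subgroup.mem_centralizer_singleton_iff.2 (Subgroup.mem_center_iff.1 hz elA).symm

instance baseKer_normal : (baseKer.subgroupOf CA).Normal := by
  have hc : baseKer ≤ Subgroup.centralizer (CA : Set Co0) := sup_le
    (Subgroup.zpowers_le.2 (Subgroup.mem_centralizer_iff.2 fun g hg => comm_of_mem hg))
    (fun z hz => Subgroup.mem_centralizer_iff.2 fun g _ => Subgroup.mem_center_iff.1 hz g)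
  refine ⟨fun a ha c => ?_⟩
  rw [Subgroup.mem_subgroupOf] at ha ⊢
  rw [Subgroup.coe_mul, Subgroup.coe_mul, Subgroup.coe_inv, Subgroup.mem_centralizer_iff.1 (hc ha) c.1 c.2,
    mul_inv_cancel_right]
  exact ha

theorem six_le_card : 6 ≤ Nat.card ↥(baseKer.subgroupOf CA) := by
  haveI := finite_Co0
  rw [Nat.card_congr (Subgroup.subgroupOfEquivOfLe baseKer_le).toEquiv]
  haveI : Fact (Nat.Prime 3) := ⟨by norm_num⟩
  haveI : Fact (Nat.Prime 2) := ⟨Nat.prime_two⟩
  have h3 : 3 ∣ Nat.card ↥baseKer := by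
    rw [← orderOf_eq_prime elA_pow_three elA_ne]
    exact Subgroup.orderOf_dvd_natCard _ (Subgroup.mem_sup_left (Subgroup.mem_zpowers _))
  have h2 : 2 ∣ Nat.card ↥baseKer := by
    rw [← orderOf_eq_prime (x := negElt) (p := 2) (by
      rw [sq]; exact Subtype.ext (Equiv.ext fun v => neg_neg v)) (fun h => by
        have := congrArg (fun z : Co0 => ((z • e8 none : leechLattice) : GolayPt → ℤ) none) h
        simp [negElt_apply, e8] at this)]
    exact Subgroup.orderOf_dvd_natCard _ (Subgroup.mem_sup_right negElt_mem)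
  exact Nat.le_of_dvd Nat.card_pos (Nat.Coprime.mul_dvd_of_dvd_of_dvd (by norm_num : Nat.Coprime 2 3) h2 h3)

/-- The image of a generator. -/
noncomputable def genImg (g : ℕ) : ↥CA ⧸ baseKer.subgroupOf CA :=
  if g < 7 then ((⟨el (Fin.ofNat 8 (g + 1)), el_mem_CA _⟩ : ↥CA) : ↥CA ⧸ baseKer.subgroupOf CA) else 1

theorem wordVal_genImg : ∀ r : List ℕ, (∀ g ∈ r, g < 7) → ∃ h : prodL (relW r) ∈ CA,
    wordVal genImg r = ((⟨prodL (relW r), h⟩ : ↥CA) : ↥CA ⧸ baseKer.subgroupOf CA)
  | [], _ => ⟨one_mem _, rfl⟩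
  | g :: r, hr => by
    obtain ⟨h, e⟩ := wordVal_genImg r fun a ha => hr a (List.mem_cons_of_mem _ ha)
    have hg : g < 7 := hr g (List.mem_cons_self ..)
    have hp : prodL (relW (g :: r)) = prodL (relW r) * el (Fin.ofNat 8 (g + 1)) := by
      rw [relW, List.reverse_cons, List.map_append, prodL_append]
      simp only [List.map_cons, List.map_nil, prodL, mul_one]
      rfl
    refine ⟨hp ▸ CA.mul_mem h (el_mem_CA _), ?_⟩
    rw [wordVal, e, gen, if_neg (by unfold eps; omega), genImg, if_pos hg, ← QuotientGroup.mk_mul]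
    exact congrArg _ (Subtype.ext hp.symm)

theorem mk_eq_one {w : List (Fin 8)} (h : prodL w ∈ CA) (hs : eqS w = true) :
    ((⟨prodL w, h⟩ : ↥CA) : ↥CA ⧸ baseKer.subgroupOf CA) = 1 :=
  (QuotientGroup.eq_one_iff _).2 (Subgroup.mem_subgroupOf.2 (mem_baseKer.2 hs))

theorem rel_holds : ∀ r ∈ relWords, wordVal genImg r = 1 := by
  intro r hr
  obtain ⟨i, hi, rfl⟩ := List.getElem_of_mem hr
  rw [rel_len] at hi
  have h : relB (i / 9) = true := by
    have : i / 9 < 6 := by omega
    interval_cases i / 9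
    exacts [rel_ok0, rel_ok1, rel_ok2, rel_ok3, rel_ok4, rel_ok5]
  simp only [relB, List.all_eq_true, Bool.and_eq_true, Nat.blt_eq] at h
  have hm : relWords[i]'(by rw [rel_len]; exact hi) ∈ (relWords.drop (9 * (i / 9))).take 9 := by
    refine List.mem_iff_getElem.2 ⟨i % 9, ?_, ?_⟩
    · rw [List.length_take, List.length_drop, rel_len]; omega
    · simp only [List.getElem_take, List.getElem_drop]
      congr 1
      omega
  obtain ⟨h1, h2⟩ := h _ hm
  obtain ⟨hc, e⟩ := wordVal_genImg _ h1
  rw [e]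
  exact mk_eq_one hc h2

theorem genImg_sq (g : ℕ) : genImg g * genImg g = 1 := by
  by_cases hg : g < 7
  · have hm : [g, g] ∈ relWords := by
      have : ∀ g < 7, [g, g] ∈ relWords := by decide +kernel
      exact this g hg
    have := rel_holds _ hm
    simpa [wordVal, gen, show g ≠ eps by unfold eps; omega] using this
  · simp [genImg, hg]

/-- The map from the presented group. -/
noncomputable def suzHom : Cfsg.Spor.Suz →* ↥CA ⧸ baseKer.subgroupOf CA :=
  PresentedGroup.toGroup (f := fun a => genImg (SuzPres.numbering.num a))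
    (SuzPres.numbering.lift_eq_one (show SuzPres.numbering.k ≤ eps by decide) genImg
      (SuzPres.map_extra genImg genImg_sq) rel_holds)

theorem suzHom_injective : Function.Injective suzHom := by
  haveI := SuzPres.isSuz.1
  rw [← MonoidHom.ker_eq_bot_iff]
  refine (IsSimpleGroup.eq_bot_or_eq_top_of_normal suzHom.ker inferInstance).resolve_right fun h => ?_
  have hk : PresentedGroup.of Cfsg.Spor.Suz.Gen.a ∈ suzHom.ker := h ▸ Subgroup.mem_top _
  rw [MonoidHom.mem_ker, suzHom, PresentedGroup.toGroup.of] at hk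
  obtain ⟨hc, e⟩ := wordVal_genImg [0] (by simp)
  have hv : wordVal genImg [0] = genImg 0 := by simp [wordVal, gen, eps]
  rw [hv, show genImg 0 = 1 from hk] at e
  have := mem_baseKer.1 (Subgroup.mem_subgroupOf.1 ((QuotientGroup.eq_one_iff _).1 e.symm))
  exact Bool.false_ne_true (nonscalar_ok.symm.trans this)

theorem suzHom_surjective : Function.Surjective suzHom := by
  haveI := finite_Co0
  haveI := SuzOut.finite_Suz
  refine ((Nat.bijective_iff_injective_and_card _).2 ⟨suzHom_injective,
    le_antisymm (Nat.card_le_card_of_injective _ suzHom_injective) ?_⟩).2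
  rw [SuzOut.card_Suz]
  have h := Subgroup.card_eq_card_quotient_mul_card_subgroup (baseKer.subgroupOf CA)
  have h1 := card_CA_le
  have h2 := six_le_card
  have h3 : Nat.card (↥CA ⧸ baseKer.subgroupOf CA) * 6 ≤ 6 * 448345497600 :=
    (Nat.mul_le_mul_left _ h2).trans (h ▸ h1)
  omega

/-- The section. -/
theorem section_suz : ∃ A : Subgroup ↥Cfsg.Co0, Nat.card A = 3 ∧
    ∃ (hn : ((A ⊔ Subgroup.center ↥Cfsg.Co0).subgroupOf (Subgroup.centralizer (A : Set ↥Cfsg.Co0))).Normal),
      Nonempty (Cfsg.Spor.Suz ≃*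
        ↥(Subgroup.centralizer (A : Set ↥Cfsg.Co0)) ⧸ (A ⊔ Subgroup.center ↥Cfsg.Co0).subgroupOf
          (Subgroup.centralizer (A : Set ↥Cfsg.Co0))) := by
  haveI : Fact (Nat.Prime 3) := ⟨by norm_num⟩
  refine ⟨Subgroup.zpowers elA, by rw [Nat.card_zpowers, orderOf_eq_prime elA_pow_three elA_ne], ?_⟩
  have e : Subgroup.centralizer ((Subgroup.zpowers elA : Subgroup Co0) : Set Co0) = CA := by
    rw [Subgroup.zpowers_eq_closure, Subgroup.centralizer_closure]
  rw [e]
  show ∃ (hn : (baseKer.subgroupOf CA).Normal), Nonempty (Cfsg.Spor.Suz ≃* ↥CA ⧸ baseKer.subgroupOf CA)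
  exact ⟨baseKer_normal, ⟨MulEquiv.ofBijective suzHom ⟨suzHom_injective, suzHom_surjective⟩⟩⟩

theorem suz_noncomm : ¬ IsMulCommutative Cfsg.Spor.Suz := by
  intro h
  obtain ⟨-, Q, -, -, -, -, -, g, -, hne⟩ := type_data
  exact hne (by rw [h.is_comm.comm g SuzMult.invA, mul_inv_cancel_right])

end Cfsg.Lib.CoSuz
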